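import Groth.Agent.FLCLib.Spec
import Groth.Agent.FLCLib.AlgCrit
import Groth.Agent.PBCLib.LocalSections
import Groth.Agent.CdFieldLib.PointRpush
import Groth.Agent.CdFieldLib.StalkField
import Groth.Agent.ProEtSLib.GeomLift
import Groth.Agent.SmoothBCLib.Stalks

/-!
# Specialisations from sections over strict localizations

The specialisation maps of an étale sheaf are injective (bijective, for finite stalks) once the restrictions from the
sections over each strict localization to its geometric points are.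
-/

set_option autoImplicit false
set_option linter.style.haveILetI false
set_option linter.unusedSectionVars false
set_option backward.isDefEq.respectTransparency false
set_option backward.isDefEq.respectTransparency.types false
set_option maxHeartbeats 2000000
set_option synthInstance.maxHeartbeats 400000

universe u

open CategoryTheory CategoryTheory.Limits AlgebraicGeometry Opposite IsLocalRing
open Groth.Agent.EtPtsLib Groth.Agent.StrictLocLib Groth.Agent.FLCLib

noncomputable section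

namespace Groth.Agent.SmoothPushLib

attribute [local instance] Groth.Agent.S0101.result

variable {Y : Scheme.{u}}

/-- Geometric points with the same image have isomorphic stalks. -/
theorem nonempty_stalk_iso_of_default_eq (G : EtCoh.Ab Y) {Ω₀ : Type u} [Field Ω₀] [IsSepClosed Ω₀]
    {ξ₀ : Spec (CommRingCat.of Ω₀) ⟶ Y} {Ω : Type u} [Field Ω] [IsSepClosed Ω]
    {ξ : Spec (CommRingCat.of Ω) ⟶ Y} (h : ξ default = ξ₀ default) :
    Nonempty ((EtCoh.stalk ξ).obj G ≅ (EtCoh.stalk ξ₀).obj G) := by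
  obtain ⟨y, hy⟩ : ∃ y, ξ₀ default = y := ⟨_, rfl⟩
  rw [hy] at h
  obtain ⟨ι₀, rfl⟩ := EtClosedPts.exists_comp_point y ξ₀ hy
  obtain ⟨ι, rfl⟩ := EtClosedPts.exists_comp_point y ξ h
  obtain ⟨a₀, rfl⟩ := Spec.map_surjective ι₀
  obtain ⟨a, rfl⟩ := Spec.map_surjective ι
  let K : Type u := Y.residueField y
  let g := Y.fromSpecResidueField y
  let R := SeparableClosure K
  letI : Algebra K Ω₀ := a₀.hom.toAlgebra
  letI : Algebra K Ω := a.hom.toAlgebra
  let b₀ : R →ₐ[K] Ω₀ := IsSepClosed.lift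
  let b : R →ₐ[K] Ω := IsSepClosed.lift
  let g' : Spec (CommRingCat.of R) ⟶ Y := Spec.map (CommRingCat.ofHom (algebraMap K R)) ≫ g
  have e₀ : Spec.map a₀ ≫ g = Spec.map (CommRingCat.ofHom b₀.toRingHom) ≫ g' := by
    rw [← Category.assoc, ← Spec.map_comp]
    exact congrArg (fun w => Spec.map w ≫ _) (CommRingCat.hom_ext b₀.comp_algebraMap.symm)
  have e : Spec.map a ≫ g = Spec.map (CommRingCat.ofHom b.toRingHom) ≫ g' := by
    rw [← Category.assoc, ← Spec.map_comp]
    exact congrArg (fun w => Spec.map w ≫ _) (CommRingCat.hom_ext b.comp_algebraMap.symm)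
  show Nonempty ((EtCoh.stalk (Spec.map a ≫ g)).obj G ≅ (EtCoh.stalk (Spec.map a₀ ≫ g)).obj G)
  rw [e, e₀]
  exact ⟨(CdFieldLib.stalkCompIso g' _ G).symm ≪≫ ((PBCLib.gsecStalkIso R _).app _).symm ≪≫
    (PBCLib.gsecStalkIso R _).app _ ≪≫ CdFieldLib.stalkCompIso g' _ G⟩

/-- The agreement set of restricted sections is the inverse image of the agreement set. -/
theorem mem_agree_restrSec {Z : Scheme.{u}} {g : Z ⟶ Y} {V : Y.Etale} (m : Z ⟶ V.left) (w : m ≫ V.hom = g)
    (G : EtCoh.Ab Y) (s s' : EtCoh.sect G V) (z : Z) :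
    z ∈ agree ((EtCoh.pull g).obj G).obj (restrSec m w G s) (restrSec m w G s') ↔ m z ∈ agree G.obj s s' := by
  let ζ := geomPtAlg z
  let l₀ := topLift ζ
  let d := secMor m w
  let l := (Scheme.pointSmallEtale ζ).fiber.map d l₀
  let l' : (Scheme.pointSmallEtale (ζ ≫ g)).fiber.obj V :=
    Over.homMk (ζ ≫ m) (by simpa using congrArg (ζ ≫ ·) w)
  have hl₀ : liftHom ζ l₀ = ζ := rfl
  have hl : liftBc g ζ V l' = l := by
    refine fiber_bc_ext g ζ ?_
    rw [liftHom_liftBc_fst]
    show ζ ≫ m = liftHom ζ ((Scheme.pointSmallEtale ζ).fiber.map d l₀) ≫ bcFst g V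
    rw [liftHom_map, Category.assoc]
    exact (congrArg (ζ ≫ ·) (secMor_fst m w)).symm
  have h1 := germ_eq_iff_mem_agree ζ ((EtCoh.pull g).obj G).obj l₀ (restrSec m w G s) (restrSec m w G s')
  have h2 := germ_eq_iff_mem_agree (ζ ≫ g) G.obj l' s s'
  have h3 := germ_unit_eq_iff g ζ G l l' hl s s'
  have e1 : liftHom ζ l₀ default = z := by rw [hl₀]; exact geomPtAlg_default z
  have e2 : liftHom (ζ ≫ g) l' default = m z := by
    show (ζ ≫ m) default = m z
    rw [Scheme.Hom.comp_apply, geomPtAlg_default]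
  rw [e1] at h1
  rw [e2] at h2
  have hm : ∀ x : EtCoh.sect G V, germ ζ ((EtCoh.pull g).obj G) l₀ (restrSec m w G x) =
      germ ζ ((EtCoh.pull g).obj G) l (((EtCoh.pullPushAdj g).unit.app G).hom.app (op V) x) := fun x =>
    germ_map ζ _ d l₀ _
  refine h1.symm.trans (Iff.trans ?_ h2)
  refine Iff.trans ?_ h3
  exact Iff.of_eq (congrArg₂ (· = ·) (hm s) (hm s'))

section StrictLoc

variable (y : Y) (R : Type u) [CommRing R] [HenselianLocalRing R] [IsSepClosed (ResidueField R)]
  [Algebra (Y.presheaf.stalk y) R] [IsLocalHom (algebraMap (Y.presheaf.stalk y) R)]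
  [Hensel.IsStrictHenselization (Y.presheaf.stalk y) R]

theorem specOf_closedPoint : Hens2.specOf Y y R (closedPoint R) = y := by
  show (Y.fromSpecStalk y) (PrimeSpectrum.comap (algebraMap _ R) (closedPoint R)) = y
  rw [IsLocalRing.comap_closedPoint (algebraMap _ R)]
  exact Scheme.fromSpecStalk_closedPoint

/-- A strict localization maps to every etale neighbourhood of its centre, covering the generalisations. -/
theorem exists_strictLoc_lift (V : Y.Etale) (v : V.left) (hv : V.hom v = y) :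
    ∃ (m : Spec (CommRingCat.of R) ⟶ V.left), m ≫ V.hom = Hens2.specOf Y y R ∧ m (closedPoint R) = v ∧
      ∀ w : V.left, w ⤳ v → ∃ t, m t = w := by
  let σ := Hens2.specOf Y y R
  haveI : AlgebraicGeometry.Etale V.hom := V.prop
  haveI : WeaklyEtale σ := ProEtSLib.weaklyEtale_specOf _ y R
  haveI : Flat σ := inferInstance
  obtain ⟨z, hz₁, hz₂⟩ := Scheme.Pullback.exists_preimage_pullback (f := V.hom) (g := σ) v (closedPoint R)
    (hv.trans (specOf_closedPoint y R).symm)
  obtain ⟨a, ha, haz⟩ := Groth.Agent.Hensel.exists_section_of_etale (pullback.snd V.hom σ) z hz₂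
  haveI : AlgebraicGeometry.Etale (a ≫ pullback.snd V.hom σ) := by rw [ha]; infer_instance
  haveI : AlgebraicGeometry.Etale a := AlgebraicGeometry.Etale.of_comp a (pullback.snd V.hom σ)
  haveI : Flat (pullback.fst V.hom σ) := inferInstance
  refine ⟨a ≫ pullback.fst _ _, ?_, ?_, fun w hw => ?_⟩
  · rw [Category.assoc, pullback.condition, ← Category.assoc, ha, Category.id_comp]
  · rw [Scheme.Hom.comp_apply, haz]
    exact hz₁
  · obtain ⟨t, -, ht⟩ := Flat.generalizingMap (a ≫ pullback.fst V.hom σ)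
      (show w ⤳ (a ≫ pullback.fst V.hom σ) (closedPoint R) by rw [Scheme.Hom.comp_apply, haz, hz₁]; exact hw)
    exact ⟨t, ht⟩

end StrictLoc

/-- A point of the fibre functor of a specialisation generises the given one. -/
theorem specializes_of_hom {Ω Ω' : Type u} [Field Ω] [IsSepClosed Ω] [Field Ω'] [IsSepClosed Ω']
    {ξ : Spec (CommRingCat.of Ω) ⟶ Y} {ξ' : Spec (CommRingCat.of Ω') ⟶ Y}
    (φ : Scheme.pointSmallEtale ξ' ⟶ Scheme.pointSmallEtale ξ) {V : Y.Etale}
    (l : (Scheme.pointSmallEtale ξ).fiber.obj V) :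
    liftHom ξ' (φ.hom.app V l) default ⤳ liftHom ξ l default := by
  refine specializes_iff_forall_open.2 fun O hO hlO => ?_
  obtain ⟨y, hy⟩ := exists_fiber_map_eq ξ (EtPointClass.incl V ⟨O, hO⟩) l ⟨liftHom ξ l default, hlO⟩ rfl
  have e2 : (Scheme.pointSmallEtale ξ').fiber.map (EtPointClass.incl V ⟨O, hO⟩) (φ.hom.app _ y) = φ.hom.app V l :=
    (NatTrans.naturality_apply φ.hom (EtPointClass.incl V ⟨O, hO⟩) y).symm.trans (congrArg _ hy)
  rw [← e2, fiber_map_point]
  exact (liftHom ξ' (φ.hom.app _ y) default : Scheme.Opens.toScheme (⟨O, hO⟩ : V.left.Opens)).2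

/-- Injectivity of the restrictions to the geometric points of the strict localizations. -/
def InjOnStrictLoc (G : EtCoh.Ab Y) : Prop :=
  ∀ (y : Y) (R : Type u) [CommRing R] [HenselianLocalRing R] [IsSepClosed (ResidueField R)]
    [Algebra (Y.presheaf.stalk y) R] [IsLocalHom (algebraMap (Y.presheaf.stalk y) R)]
    [Hensel.IsStrictHenselization (Y.presheaf.stalk y) R] (t : Spec (CommRingCat.of R)),
    Function.Injective (EtCore.Hpull (geomPtAlg t) ((EtCoh.pull (Hens2.specOf Y y R)).obj G) 0)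

/-- Surjectivity of the restrictions to the geometric points of the strict localizations. -/
def SurjOnStrictLoc (G : EtCoh.Ab Y) : Prop :=
  ∀ (y : Y) (R : Type u) [CommRing R] [HenselianLocalRing R] [IsSepClosed (ResidueField R)]
    [Algebra (Y.presheaf.stalk y) R] [IsLocalHom (algebraMap (Y.presheaf.stalk y) R)]
    [Hensel.IsStrictHenselization (Y.presheaf.stalk y) R] (t : Spec (CommRingCat.of R)),
    Function.Surjective (EtCore.Hpull (geomPtAlg t) ((EtCoh.pull (Hens2.specOf Y y R)).obj G) 0)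

variable {G : EtCoh.Ab Y}

/-- The specialisation maps are injective. -/
theorem injective_sheafFiber (h : InjOnStrictLoc G) {Ω Ω' : Type u} [Field Ω] [IsSepClosed Ω] [Field Ω']
    [IsSepClosed Ω'] {ξ : Spec (CommRingCat.of Ω) ⟶ Y} {ξ' : Spec (CommRingCat.of Ω') ⟶ Y}
    (φ : Scheme.pointSmallEtale ξ' ⟶ Scheme.pointSmallEtale ξ) :
    Function.Injective ((GrothendieckTopology.Point.Hom.sheafFiber (A := AddCommGrpCat.{u + 1}) φ).app G) := by
  refine (injective_iff_map_eq_zero _).2 fun x hx => ?_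
  obtain ⟨V, l, s, rfl⟩ := (Scheme.pointSmallEtale ξ).toPresheafFiber_jointly_surjective (P := G.obj) x
  have hw : liftHom ξ' (φ.hom.app V l) default ∈ agree G.obj s 0 :=
    (germ_eq_iff_mem_agree ξ' G.obj (φ.hom.app V l) s 0).1
      (((FLCLib.sheafFiber_germ φ G l s).symm.trans hx).trans (map_zero _).symm)
  refine (Eq.trans ?_ (map_zero ((Scheme.pointSmallEtale ξ).toPresheafFiber V l G.obj).hom))
  refine (germ_eq_iff_mem_agree ξ G.obj l s 0).2 ?_
  let v := liftHom ξ l default
  obtain ⟨y, hy0⟩ : ∃ y : Y, V.hom v = y := ⟨_, rfl⟩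
  obtain ⟨R, _, _, _, _, hR⟩ := Henselization.exists_strictHenselization (R := Y.presheaf.stalk y)
  haveI := hR
  haveI := Hensel.IsStrictHenselization.henselian (R := Y.presheaf.stalk y) (S := R)
  haveI : IsSepClosed (ResidueField R) :=
    (Hensel.IsStrictHenselization.isSepClosure (R := Y.presheaf.stalk y) (S := R)).sep_closed
  obtain ⟨m, hm, hmc, hgen⟩ := exists_strictLoc_lift y R V v hy0
  obtain ⟨t, ht⟩ := hgen _ (specializes_of_hom φ l)
  let A := (EtCoh.pull (Hens2.specOf Y y R)).obj G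
  let r : A.obj.obj (op (EtCoh.top _)) := restrSec m hm G s
  have h0 : restrSec (W := V) m hm G 0 = 0 := map_zero _
  have ht' : t ∈ agree A.obj r 0 := by
    rw [← h0]
    exact (mem_agree_restrSec m hm G s 0 t).2 (ht.symm ▸ hw)
  let ζ := geomPtAlg t
  let P := Spec (CommRingCat.of (AlgebraicClosure ((Spec (CommRingCat.of R)).residueField t)))
  have hr : restrSec (W := EtCoh.top _) ζ (Category.comp_id ζ) A r = 0 := by
    refine (germ_top_bijective (𝟙 P) (topPt _ (𝟙 _)) (exists_top_hom_field _ (𝟙 _)) _).1 ?_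
    refine (germ_eq_iff_mem_agree (𝟙 P) _ _ _ _).2 ?_
    rw [← (show restrSec (W := EtCoh.top _) ζ (Category.comp_id ζ) A 0 = 0 from map_zero _)]
    refine (mem_agree_restrSec (V := EtCoh.top _) ζ (Category.comp_id ζ) A r 0 _).2 ?_
    have hz : ∀ p : ↥P, ζ p = t := fun p => by rw [Subsingleton.elim p default]; exact geomPtAlg_default t
    exact (hz _).symm ▸ ht'
  have hr0 : r = 0 := by
    let c := (Sheaf.H.equiv₀ A (EtCore.topIsTerminal _)).symm r
    have hc : EtCore.Hpull ζ A 0 c = 0 := (Sheaf.H.equiv₀ _ (EtCore.topIsTerminal P)).injective (by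
      rw [PBCLib.equiv₀_Hpull, AddEquiv.apply_symm_apply, map_zero]
      exact hr)
    have := congrArg (Sheaf.H.equiv₀ A (EtCore.topIsTerminal _)) (h y R t (hc.trans (map_zero _).symm))
    simpa [c] using this
  show v ∈ agree G.obj s 0
  rw [← hmc]
  refine (mem_agree_restrSec m hm G s 0 (closedPoint R)).1 ?_
  rw [h0, show restrSec m hm G s = 0 from hr0]
  exact Set.mem_iUnion.2 ⟨EtCoh.top _, Set.mem_iUnion.2 ⟨𝟙 _, Set.mem_iUnion.2 ⟨rfl, closedPoint R, rfl⟩⟩⟩

/-- The specialisation maps are bijective for finite stalks. -/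
theorem bijective_sheafFiber (h : InjOnStrictLoc G) (h' : SurjOnStrictLoc G)
    (hfin : ∀ (Ω : Type u) [Field Ω] [IsSepClosed Ω] (ξ : Spec (CommRingCat.of Ω) ⟶ Y),
      Finite ((EtCoh.stalk ξ).obj G))
    {Ω Ω' : Type u} [Field Ω] [IsSepClosed Ω] [Field Ω'] [IsSepClosed Ω']
    {ξ : Spec (CommRingCat.of Ω) ⟶ Y} {ξ' : Spec (CommRingCat.of Ω') ⟶ Y}
    (φ : Scheme.pointSmallEtale ξ' ⟶ Scheme.pointSmallEtale ξ) :
    Function.Bijective ((GrothendieckTopology.Point.Hom.sheafFiber (A := AddCommGrpCat.{u + 1}) φ).app G) := by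
  let y := ξ default
  obtain ⟨R, _, _, _, _, hR⟩ := Henselization.exists_strictHenselization (R := Y.presheaf.stalk y)
  haveI := hR
  haveI := Hensel.IsStrictHenselization.henselian (R := Y.presheaf.stalk y) (S := R)
  haveI : IsSepClosed (ResidueField R) :=
    (Hensel.IsStrictHenselization.isSepClosure (R := Y.presheaf.stalk y) (S := R)).sep_closed
  let σ := Hens2.specOf Y y R
  have hsp : ξ' default ⤳ y := by
    have hh := specializes_of_hom φ (topLift ξ)
    have e : liftHom ξ' (φ.hom.app (EtCoh.top Y) (topLift ξ)) = ξ' :=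
      (Category.comp_id _).symm.trans (liftHom_comp ξ' _)
    rwa [e] at hh
  obtain ⟨m, hm, -, hgen⟩ := exists_strictLoc_lift y R (EtCoh.top Y) y rfl
  obtain rfl : m = σ := (Category.comp_id m).symm.trans hm
  obtain ⟨t, ht⟩ := hgen (ξ' default) hsp
  let A := (EtCoh.pull σ).obj G
  let c := Spec.map (CommRingCat.ofHom (residue R))
  let ζ := geomPtAlg t
  let P := Spec (CommRingCat.of (AlgebraicClosure ((Spec (CommRingCat.of R)).residueField t)))
  have hc : (c ≫ σ) default = ξ default := by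
    rw [Scheme.Hom.comp_apply]
    rw [Subsingleton.elim (α := ↥(Spec (CommRingCat.of (ResidueField R)))) default (closedPoint _)]
    exact (congrArg σ (IsLocalRing.comap_closedPoint (residue R))).trans (specOf_closedPoint y R)
  have hz : (ζ ≫ σ) default = ξ' default := by
    rw [Scheme.Hom.comp_apply, geomPtAlg_default]
    exact ht
  have h1 : Nat.card ((EtCoh.stalk ξ).obj G) = Nat.card (EtCoh.H _ A 0) := by
    obtain ⟨e⟩ := nonempty_stalk_iso_of_default_eq G hc
    let i := (e.symm ≪≫ (CdFieldLib.stalkCompIso σ c G).symm).addCommGroupIsoToAddEquiv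
    let j := Equiv.ofBijective _ (germ_top_bijective c (topLift c)
      (fun U l => exists_top_hom R (topLift c) U l) A.obj)
    exact Nat.card_congr (i.toEquiv.trans (j.symm.trans (Sheaf.H.equiv₀ A (EtCore.topIsTerminal _)).symm.toEquiv))
  have h2 : Nat.card ((EtCoh.stalk ξ').obj G) = Nat.card (EtCoh.H P ((EtCoh.pull ζ).obj A) 0) := by
    obtain ⟨e⟩ := nonempty_stalk_iso_of_default_eq G hz
    let i := (e.symm ≪≫ (CdFieldLib.stalkCompIso σ ζ G).symm ≪≫
      eqToIso (by rw [Category.id_comp]) ≪≫ (CdFieldLib.stalkCompIso ζ (𝟙 P) A).symm).addCommGroupIsoToAddEquiv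
    let j := Equiv.ofBijective _ (germ_top_bijective (𝟙 P) (topPt _ (𝟙 _)) (exists_top_hom_field _ (𝟙 _))
      ((EtCoh.pull ζ).obj A).obj)
    exact Nat.card_congr (i.toEquiv.trans (j.symm.trans (Sheaf.H.equiv₀ _ (EtCore.topIsTerminal P)).symm.toEquiv))
  haveI := hfin Ω ξ
  haveI := hfin Ω' ξ'
  exact (injective_sheafFiber h φ).bijective_of_nat_card_le (h2.trans ((Nat.card_congr
    (Equiv.ofBijective _ ⟨h y R t, h' y R t⟩)).symm.trans h1.symm)).le

end Groth.Agent.SmoothPushLib
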