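import Groth.Agent.SmoothPushLib.Spec
import Groth.Agent.PBCLib.Rows
import Groth.Agent.PBCLib.Final
import Groth.Agent.S9777
import Groth.Agent.S0636
import Groth.Agent.S0205

/-!
# Stalks of proper direct images of constant sheaves along curves
-/

set_option autoImplicit false
set_option linter.style.haveILetI false
set_option backward.isDefEq.respectTransparency false
set_option backward.isDefEq.respectTransparency.types false
set_option maxHeartbeats 2000000
set_option synthInstance.maxHeartbeats 400000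

universe u

open CategoryTheory CategoryTheory.Limits AlgebraicGeometry Opposite
open Groth.Agent.EtPtsLib

noncomputable section

namespace Groth.Agent.SmoothPushLib

attribute [local instance] Groth.Agent.S0101.result

variable {X Y : Scheme.{u}}

theorem topologicalKrullDim_geomFibre_le (f : X ⟶ Y) [LocallyOfFiniteType f] [QuasiCompact f] {Ω : Type u} [Field Ω]
    (ξ : Spec (CommRingCat.of Ω) ⟶ Y) :
    topologicalKrullDim ↥(pullback f ξ) ≤ topologicalKrullDim (f.fiber (ξ default)) := by
  have h : (Set.univ : Set ↥(pullback f ξ)) = pullback.snd f ξ ⁻¹' {default} :=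
    Set.ext fun z => by simpa using Subsingleton.elim (α := ↥(Spec (CommRingCat.of Ω))) _ _
  refine le_of_eq_of_le ?_ (Groth.Agent.S9777.result f ξ (pullback.snd f ξ) (pullback.fst f ξ)
    (IsPullback.of_hasPullback f ξ) default).le
  exact (IsHomeomorph.topologicalKrullDim_eq _
    (((Homeomorph.Set.univ _).symm.trans (Homeomorph.setCongr h)).trans
      ((pullback.snd f ξ).fiberHomeo default).symm).isHomeomorph)

/-- The cohomology of the alg-closed geometric fibres computes the stalks. -/
theorem nonempty_stalk_Rpush_geomPtAlg (f : X ⟶ Y) [IsProper f] (F : EtCoh.Ab X) (hF : EtCoh.IsTorsion F) (q : ℕ)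
    {Ω : Type u} [Field Ω] [IsSepClosed Ω] (ξ : Spec (CommRingCat.of Ω) ⟶ Y) :
    Nonempty ((EtCoh.stalk ξ).obj ((EtCoh.Rpush f q).obj F) ≅
      AddCommGrpCat.of (EtCoh.H (pullback f (geomPtAlg (ξ default)))
        ((EtCoh.pull (pullback.fst f (geomPtAlg (ξ default)))).obj F) q)) := by
  obtain ⟨e⟩ := nonempty_stalk_iso_of_default_eq ((EtCoh.Rpush f q).obj F)
    (ξ := ξ) (ξ₀ := geomPtAlg (ξ default)) (geomPtAlg_default _).symm
  obtain ⟨e'⟩ := PBCLib.nonempty_stalk_Rpush_iso (fun {_ _} g _ => PBCLib.bcAll_of_proper g) f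
    (geomPtAlg (ξ default)) F hF q
  exact ⟨e ≪≫ e'⟩

variable (f : X ⟶ Y) [IsProper f] (hdim : ∀ y : Y, topologicalKrullDim (f.fiber y) ≤ 1)

include hdim

/-- Finiteness of the stalks along curves. -/
theorem finite_stalk_Rpush_curve (F : EtCoh.Ab X) (hc : EtPBC.IsConstructible F) {N : ℕ} (hN : 0 < N)
    (hF : EtCoh.KilledBy N F) (q : ℕ) {Ω : Type u} [Field Ω] [IsSepClosed Ω] (ξ : Spec (CommRingCat.of Ω) ⟶ Y) :
    Finite ((EtCoh.stalk ξ).obj ((EtCoh.Rpush f q).obj F)) := by
  obtain ⟨e⟩ := nonempty_stalk_Rpush_geomPtAlg f F (PBCLib.isTorsion_of_killedBy' hN hF) q ξ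
  let ζ := geomPtAlg (ξ default)
  haveI := Groth.Agent.S0636.result (AlgebraicClosure (Y.residueField (ξ default))) (pullback f ζ) (pullback.snd f ζ)
    ((topologicalKrullDim_geomFibre_le f ζ).trans (hdim _)) _ (FLCLib.isConstructible_pull (pullback.fst f ζ) hc)
    (PBCLib.isTorsion_of_killedBy' hN (PBCLib.killedBy_pull _ hF)) q
  exact Finite.of_equiv _ e.addCommGroupIsoToAddEquiv.toEquiv.symm

/-- In characteristic `p` sheaves killed by `p` have no direct images above degree one along curves. -/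
theorem isZero_Rpush_curve_char (p : ℕ) [hp : Fact p.Prime] (hpY : (p : Γ(Y, ⊤)) = 0) (F : EtCoh.Ab X)
    (hF : EtCoh.KilledBy p F) (q : ℕ) (hq : 1 < q) : IsZero ((EtCoh.Rpush f q).obj F) := by
  refine (EtPtsLib.isZero_iff_ab _).2 fun Ω _ _ ξ => ?_
  obtain ⟨e⟩ := nonempty_stalk_Rpush_geomPtAlg f F (PBCLib.isTorsion_of_killedBy' hp.out.pos hF) q ξ
  let K := AlgebraicClosure (Y.residueField (ξ default))
  let ζ := geomPtAlg (ξ default)
  haveI : CharP K p := by
    refine (CharP.charP_iff_prime_eq_zero hp.out).2 ?_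
    have h1 : (p : Y.residueField (ξ default)) = 0 := by
      have h := congrArg (Y.evaluation ⊤ (ξ default) trivial).hom hpY
      rwa [map_natCast, map_zero] at h
    have h2 := congrArg (algebraMap (Y.residueField (ξ default)) K) h1
    rwa [map_natCast, map_zero] at h2
  have hG : EtCoh.KilledBy p ((EtCoh.pull (pullback.fst f ζ)).obj F) := PBCLib.killedBy_pull _ hF
  haveI := Groth.Agent.S0205.result K p (pullback f ζ) (pullback.snd f ζ)
    ((topologicalKrullDim_geomFibre_le f ζ).trans (hdim _)) ((EtCoh.pull (pullback.fst f ζ)).obj F)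
    (fun U s x => ⟨U, 𝟙 U, ⟨x, rfl⟩, 1, by rw [pow_one]; exact hG U _⟩) q hq
  exact (AddCommGrpCat.isZero_of_subsingleton _).of_iso e

end Groth.Agent.SmoothPushLib
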