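import Groth.Agent.SmoothPushLib.SmoothLoc
import Groth.Agent.SmoothPushLib.GeomFibreDim
import Groth.Agent.FinPushLib.Core
import Groth.Agent.EtH1Lib.Torsor
import Groth.Agent.S3114
import Groth.Agent.S3115

/-!
# Constructibility of the higher direct images of constant sheaves along smooth proper curves
-/

set_option autoImplicit false
set_option linter.style.haveILetI false
set_option backward.isDefEq.respectTransparency false
set_option backward.isDefEq.respectTransparency.types false
set_option maxHeartbeats 2000000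
set_option synthInstance.maxHeartbeats 400000

universe u

open CategoryTheory CategoryTheory.Limits AlgebraicGeometry Opposite IsLocalRing

noncomputable section

namespace Groth.Agent.SmoothPushLib

attribute [local instance] Groth.Agent.S0101.result

/-- The higher direct images of a constant sheaf along a smooth proper relative curve are constructible. -/
theorem isConstructible_Rpush_const_smoothCurve {X S : Scheme.{u}} [IsNoetherian S] (f : X ⟶ S) [IsProper f]
    [Smooth f] (hdim : ∀ s : S, topologicalKrullDim (f.fiber s) ≤ 1) (p : ℕ) [hp : Fact p.Prime]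
    (hpS : IsUnit (p : Γ(S, ⊤)) ∨ (p : Γ(S, ⊤)) = 0) (q : ℕ) :
    EtPBC.IsConstructible ((EtCoh.Rpush f q).obj (EtCoh.const X (ZMod p))) := by
  haveI : NeZero p := ⟨hp.out.ne_zero⟩
  let F := EtCoh.const X (ZMod p)
  have hF : EtCoh.KilledBy p F := PBCLib.killedBy_const X p
  have hlc : EtCoh.IsFiniteLocallyConstant F := EtH1Lib.isFiniteLocallyConstant_const (ZMod p)
  have hN : EtAcyc.PrimesIn ({p} : Set ℕ) p :=
    ⟨hp.out.pos, fun ℓ hℓ hd => (Nat.prime_dvd_prime_iff_eq hℓ hp.out).1 hd⟩
  have hfin : ∀ (Ω : Type u) [Field Ω] [IsSepClosed Ω] (ξ : Spec (CommRingCat.of Ω) ⟶ S),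
      Finite ((EtCoh.stalk ξ).obj ((EtCoh.Rpush f q).obj F)) := fun Ω _ _ ξ =>
    haveI : IsNoetherian X :=
      haveI := LocallyOfFiniteType.isLocallyNoetherian f
      haveI := QuasiCompact.compactSpace_of_compactSpace f
      {}
    finite_stalk_Rpush_curve f hdim F (FLCLib.isConstructible_of_flc hlc) hp.out.pos hF q ξ
  rcases hpS with hu | h0
  · have hf : ∀ n, LocAcycStrict f ({p} : Set ℕ) n := fun n =>
      locAcycStrict_of_isUnit f _ (fun ℓ hℓ => by
        obtain rfl : ℓ = p := hℓ
        exact ⟨hp.out, hu⟩) n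
    refine FLCLib.isConstructible_of_flc ((Groth.Agent.S3114.result S _ hfin).2 fun Ω Ω' _ _ _ _ ξ ξ' φ => ?_)
    exact (ConcreteCategory.isIso_iff_bijective _).2 (bijective_sheafFiber
      (injOnStrictLoc_of_locAcyc f (hf q) hN F hlc hF q (Nat.le_succ q))
      (surjOnStrictLoc_of_locAcyc f (hf q) hN F hlc hF q le_rfl) hfin φ)
  · rcases Nat.lt_or_ge 1 q with hlt | hge
    · exact FLCLib.isConstructible_of_isZero (isZero_Rpush_curve_char f hdim p h0 F hF q hlt)
    · refine Groth.Agent.S3115.result S _ hfin fun Ω Ω' _ _ _ _ ξ ξ' φ => ?_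
      exact (AddCommGrpCat.mono_iff_injective _).2 (injective_sheafFiber
        (injOnStrictLoc_of_locAcyc f (locAcycStrict_zero f _) hN F hlc hF q hge) φ)

/-- The input on smooth relative curves. -/
theorem smoothCurveInput : FinPushLib.SmoothCurveInput.{u} :=
  fun f _ _ hdim p _ hp q => isConstructible_Rpush_const_smoothCurve f hdim p hp q

end Groth.Agent.SmoothPushLib
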