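import Groth.Agent.SmoothPushLib.LcFibre
import Groth.Agent.S1467

/-!
# Local acyclicity and weakly etale base change
-/

set_option autoImplicit false
set_option linter.style.haveILetI false
set_option backward.isDefEq.respectTransparency false
set_option backward.isDefEq.respectTransparency.types false
set_option maxHeartbeats 1000000

universe u

open CategoryTheory CategoryTheory.Limits AlgebraicGeometry Opposite IsLocalRing

noncomputable section

namespace Groth.Agent.SmoothPushLib

attribute [local instance] Groth.Agent.S0101.result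

variable {L : Set ℕ} {n : ℕ}

/-- Precomposition with a weakly etale morphism preserves local acyclicity. -/
theorem isLocAcyclicN_weaklyEtale_comp {X' X Y : Scheme.{u}} (g : X' ⟶ X) [WeaklyEtale g] (f : X ⟶ Y)
    (hf : EtAcyc.IsLocAcyclicN f L n) : EtAcyc.IsLocAcyclicN (g ≫ f) L n := by
  intro x RY RX _ _ _ _ _ _ _ _ _ _ _ _ hψ
  letI aX : Algebra (X.presheaf.stalk (g x)) RX :=
    ((algebraMap (X'.presheaf.stalk x) RX).comp (g.stalkMap x).hom).toAlgebra
  obtain ⟨_, _⟩ := (Groth.Agent.S1467.result g).1 ‹WeaklyEtale g› x RX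
  letI aY : Algebra (Y.presheaf.stalk (f (g x))) RY := ‹Algebra (Y.presheaf.stalk ((g ≫ f).base x)) RY›
  haveI : IsLocalHom (algebraMap (Y.presheaf.stalk (f (g x))) RY) :=
    ‹IsLocalHom (algebraMap (Y.presheaf.stalk ((g ≫ f).base x)) RY)›
  haveI : Hensel.IsStrictHenselization (Y.presheaf.stalk (f (g x))) RY :=
    ‹Hensel.IsStrictHenselization (Y.presheaf.stalk ((g ≫ f).base x)) RY›
  refine hf (g x) RY RX ?_
  refine hψ.trans ?_
  rw [Scheme.Hom.stalkMap_comp]
  rfl

/-- Local acyclicity descends along a weakly etale postcomposition. -/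
theorem isLocAcyclicN_of_comp_weaklyEtale {X' Y' Y : Scheme.{u}} (f : X' ⟶ Y') (σ : Y' ⟶ Y) [WeaklyEtale σ]
    (hf : EtAcyc.IsLocAcyclicN (f ≫ σ) L n) : EtAcyc.IsLocAcyclicN f L n := by
  intro x RY RX _ _ _ _ _ _ _ _ _ _ _ _ hψ
  letI aY : Algebra (Y.presheaf.stalk ((f ≫ σ).base x)) RY :=
    ((algebraMap (Y'.presheaf.stalk (f.base x)) RY).comp (σ.stalkMap (f.base x)).hom).toAlgebra
  obtain ⟨hl, hs⟩ := (Groth.Agent.S1467.result σ).1 ‹WeaklyEtale σ› (f.base x) RY
  haveI : IsLocalHom (algebraMap (Y.presheaf.stalk ((f ≫ σ).base x)) RY) := hl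
  haveI : Hensel.IsStrictHenselization (Y.presheaf.stalk ((f ≫ σ).base x)) RY := hs
  refine hf x RY RX ?_
  rw [Scheme.Hom.stalkMap_comp, CommRingCat.hom_comp, ← RingHom.comp_assoc, ← hψ, RingHom.comp_assoc]
  rfl

/-- Base changes of locally acyclic morphisms to strict localizations are locally acyclic. -/
theorem locAcycStrict_of_isLocAcyclicN {X Y : Scheme.{u}} (f : X ⟶ Y) (hf : EtAcyc.IsLocAcyclicN f L n) :
    LocAcycStrict f L n := fun y R _ _ _ _ _ _ => by
  let σ := Hens2.specOf Y y R
  haveI : WeaklyEtale σ := ProEtSLib.weaklyEtale_specOf _ y R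
  haveI : WeaklyEtale (pullback.fst f σ) := MorphismProperty.pullback_fst _ _ ‹_›
  refine isLocAcyclicN_of_comp_weaklyEtale (pullback.snd f σ) σ ?_
  rw [← pullback.condition]
  exact isLocAcyclicN_weaklyEtale_comp (pullback.fst f σ) f hf

end Groth.Agent.SmoothPushLib
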