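import Groth.Agent.FLCLib.Basic
import Groth.Agent.EtPtsLib.OpenShriek
import Groth.Agent.EtJCont.Basic

/-!
# Local constancy is local for the etale topology
-/

set_option autoImplicit false
set_option linter.style.haveILetI false
set_option backward.isDefEq.respectTransparency false
set_option backward.isDefEq.respectTransparency.types false
set_option maxHeartbeats 1000000

universe u

open CategoryTheory CategoryTheory.Limits AlgebraicGeometry Opposite
open Groth.Agent.EtPtsLib

noncomputable section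

namespace Groth.Agent.SmoothPushLib

variable {T X : Scheme.{u}} (j : T ⟶ X) [AlgebraicGeometry.Etale j]

/-- A chart of an inverse image along an etale morphism is a chart. -/
theorem exists_isConstOn_of_pull (G : EtCoh.Ab X) (U : T.Etale) {M : AddCommGrpCat.{u + 1}}
    {θ : M ⟶ ((EtCoh.pull j).obj G).obj.obj (op U)} (h : FLCLib.IsConstOn ((EtCoh.pull j).obj G) U θ) :
    ∃ (W : X.Etale) (θ' : M ⟶ G.obj.obj (op W)), Set.range W.hom = j '' Set.range U.hom ∧ FLCLib.IsConstOn G W θ' := by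
  haveI : EtShriek.JCont j := EtJCont.jCont j
  let α := EtPtsLib.pullIsoRestr j
  let W : X.Etale := (EtShriek.compEtale j).obj U
  let d := (EtPtsLib.compBcAdj j).unit.app U
  have hW : W.hom = U.hom ≫ j := rfl
  refine ⟨W, θ ≫ (α.hom.app G).hom.app (op U), ?_, fun Ω _ _ ξ l => ?_⟩
  · ext x
    constructor
    · rintro ⟨v, rfl⟩
      exact ⟨U.hom v, ⟨v, rfl⟩, rfl⟩
    · rintro ⟨_, ⟨v, rfl⟩, rfl⟩
      exact ⟨v, rfl⟩
  let m₀ : Spec (CommRingCat.of Ω) ⟶ U.left := liftHom ξ l
  have hξ : ξ = (m₀ ≫ U.hom) ≫ j := (liftHom_comp ξ l).symm.trans (Category.assoc m₀ U.hom j).symm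
  obtain ⟨ζ, hζ⟩ : ∃ ζ, m₀ ≫ U.hom = ζ := ⟨_, rfl⟩
  rw [hζ] at hξ
  subst hξ
  let l₀ : (Scheme.pointSmallEtale ζ).fiber.obj U := Over.homMk m₀ hζ
  have hl : liftBc j ζ W l = (Scheme.pointSmallEtale ζ).fiber.map d l₀ := by
    refine fiber_bc_ext j ζ ?_
    rw [liftHom_liftBc_fst, liftHom_map, Category.assoc]
    refine ((congrArg (m₀ ≫ ·) (?_ : d.left ≫ bcFst j W = 𝟙 U.left)).trans (Category.comp_id _)).symm
    exact pullback.lift_fst _ _ _
  haveI : IsIso ((α.hom.app G).hom.app (op U)) :=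
    inferInstanceAs (IsIso (((ObjectProperty.ι _).mapIso (α.app G)).app (op U)).hom)
  have h1 : (EtCoh.pullPushAdj j).unit.app G ≫ (EtCoh.push j).map (α.hom.app G) =
      (EtPtsLib.restrPushAdj j).unit.app G :=
    Adjunction.unit_leftAdjointUniq_hom_app _ _ G
  have key : ∀ m : M, ((EtCoh.pull j).obj G).obj.map d.op
      (((EtCoh.pullPushAdj j).unit.app G).hom.app (op W) ((α.hom.app G).hom.app (op U) (θ m))) = θ m := fun m => by
    apply (ConcreteCategory.bijective_of_isIso ((α.hom.app G).hom.app (op U))).1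
    refine (NatTrans.naturality_apply (α.hom.app G).hom d.op _).trans ?_
    have h2 := congr(($h1).hom.app (op W) ((α.hom.app G).hom.app (op U) (θ m)))
    refine (congrArg (((EtShriek.restrAlong j).obj G).obj.map d.op) h2).trans ?_
    show G.obj.map ((EtShriek.compEtale j).map d).op (G.obj.map ((EtPtsLib.compBcAdj j).counit.app W).op _) = _
    refine (ConcreteCategory.comp_apply _ _ _).symm.trans ?_
    have e0 : ((EtPtsLib.compBcAdj j).counit.app W).op ≫ ((EtShriek.compEtale j).map d).op = 𝟙 (op W) :=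
      congrArg Quiver.Hom.op ((EtPtsLib.compBcAdj j).left_triangle_components U)
    refine (congrArg (fun k => (ConcreteCategory.hom (C := AddCommGrpCat.{u + 1}) k) _)
      ((G.obj.map_comp _ _).symm.trans ((congrArg G.obj.map e0).trans (G.obj.map_id _)))).trans ?_
    rfl
  have e : (fun m : M => germ ζ ((EtCoh.pull j).obj G) l₀ (θ m)) =
      unitStalk j ζ G ∘ fun m : M => germ (ζ ≫ j) G l ((θ ≫ (α.hom.app G).hom.app (op U)) m) := funext fun m => by
    have h3 := ConcreteCategory.congr_hom (toPresheafFiber_unitStalk j ζ G W l)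
      ((α.hom.app G).hom.app (op U) (θ m))
    rw [hl] at h3
    refine Eq.trans ?_ h3.symm
    refine (congrArg (germ ζ ((EtCoh.pull j).obj G) l₀) (key m).symm).trans ?_
    exact germ_map ζ _ d l₀ _
  have hb := h Ω ζ l₀
  rw [e] at hb
  exact (Function.Bijective.of_comp_iff' (bijective_unitStalk j ζ G) _).1 hb

/-- Finite local constancy is local for the etale topology. -/
theorem isFiniteLocallyConstant_of_local (G : EtCoh.Ab X)
    (h : ∀ x : X, ∃ (T : Scheme.{u}) (j : T ⟶ X) (_ : AlgebraicGeometry.Etale j), x ∈ Set.range j ∧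
      EtCoh.IsFiniteLocallyConstant ((EtCoh.pull j).obj G)) :
    EtCoh.IsFiniteLocallyConstant G :=
  (FLCLib.finiteLocallyConstant_iff G).2 fun x => by
    obtain ⟨T, j, _, ⟨t, rfl⟩, hG⟩ := h x
    obtain ⟨U, M, θ, ht, hM, hθ⟩ := (FLCLib.finiteLocallyConstant_iff _).1 hG t
    obtain ⟨W, θ', hW, hθ'⟩ := exists_isConstOn_of_pull j G U hθ
    exact ⟨W, M, θ', hW ▸ ⟨t, ht, rfl⟩, hM, hθ'⟩

end Groth.Agent.SmoothPushLib
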