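import Groth.Agent.SmoothPushLib.Curve
import Groth.Agent.SmoothPushLib.Local
import Groth.Agent.SmoothPushLib.LocAcycBC
import Groth.Agent.FinPushLib.Finiteness
import Groth.Agent.FinPushLib.CurveModelInput

/-!
# Locally constant higher direct images along proper locally acyclic morphisms
-/

set_option autoImplicit false
set_option linter.style.haveILetI false
set_option backward.isDefEq.respectTransparency false
set_option backward.isDefEq.respectTransparency.types false
set_option maxHeartbeats 2000000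
set_option synthInstance.maxHeartbeats 400000

universe u

open CategoryTheory CategoryTheory.Limits AlgebraicGeometry Opposite IsLocalRing
open Groth.Agent.EtPtsLib

noncomputable section

namespace Groth.Agent.SmoothPushLib

attribute [local instance] Groth.Agent.S0101.result

/-- A constructible sheaf with bijective specialisations is finite locally constant. -/
theorem isFiniteLocallyConstant_of_spec {Y : Scheme.{u}} (G : EtCoh.Ab Y) (hc : EtPBC.IsConstructible G)
    (h : ∀ (Ω Ω' : Type u) [Field Ω] [IsSepClosed Ω] [Field Ω'] [IsSepClosed Ω']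
      (ξ : Spec (CommRingCat.of Ω) ⟶ Y) (ξ' : Spec (CommRingCat.of Ω') ⟶ Y)
      (φ : Scheme.pointSmallEtale ξ' ⟶ Scheme.pointSmallEtale ξ),
      Function.Bijective ((GrothendieckTopology.Point.Hom.sheafFiber (A := AddCommGrpCat.{u + 1}) φ).app G)) :
    EtCoh.IsFiniteLocallyConstant G := by
  refine (FLCLib.finiteLocallyConstant_iff G).2 fun x => ?_
  obtain ⟨V, M, θ, hxV, hM, hgood⟩ := FLCLib.exists_good_cover hc (EtPtsLib.geomPt x) fun Ω' _ _ ξ' φ =>
    h _ _ _ ξ' φ
  rw [EtPtsLib.geomPt_default] at hxV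
  haveI := hM
  exact ⟨V, M, θ, hxV, hM, fun Ω' _ _ ζ l => FLCLib.GoodPt.bijective l (hgood _)⟩

variable {X Y : Scheme.{u}}

/-- Locally constant direct images over a quasi-compact quasi-separated base. -/
theorem flc_Rpush_qcqs [CompactSpace Y] [QuasiSeparatedSpace Y] (f : X ⟶ Y) [IsProper f]
    [LocallyOfFinitePresentation f] {L : Set ℕ} {n : ℕ} (hf : LocAcycStrict f L n) {N : ℕ}
    (hN : EtAcyc.PrimesIn L N) (F : EtCoh.Ab X) (hlc : EtCoh.IsFiniteLocallyConstant F) (hF : EtCoh.KilledBy N F)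
    (q : ℕ) (hq : q ≤ n) : EtCoh.IsFiniteLocallyConstant ((EtCoh.Rpush f q).obj F) := by
  have hc : EtPBC.IsConstructible ((EtCoh.Rpush f q).obj F) :=
    FinPushLib.isConstructible_Rpush smoothCurveInput FinPushLib.modelInput f N hN.1 F
      (FLCLib.isConstructible_of_flc hlc) hF q
  exact isFiniteLocallyConstant_of_spec _ hc fun Ω Ω' _ _ _ _ ξ ξ' φ => bijective_sheafFiber
    (injOnStrictLoc_of_locAcyc f hf hN F hlc hF q (hq.trans (Nat.le_succ n)))
    (surjOnStrictLoc_of_locAcyc f hf hN F hlc hF q hq) (fun Ω₀ _ _ η => FinPushLib.finite_stalk hc η) φ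

/-- A bounded torsion `L`-sheaf is killed by an integer with prime factors in `L`. -/
theorem exists_primesIn_killedBy {L : Set ℕ} {F : EtCoh.Ab X} (hT : EtAcyc.IsLTorsion L F) {N : ℕ} (hN : 0 < N)
    (hF : EtCoh.KilledBy N F) : ∃ a, EtAcyc.PrimesIn L a ∧ EtCoh.KilledBy a F := by
  classical
  let D := N.divisors.filter fun d => EtAcyc.PrimesIn L d
  let a := ∏ d ∈ D, d
  refine ⟨a, ⟨Finset.prod_pos fun d hd => (Finset.mem_filter.1 hd).2.1, fun p hp hpa => ?_⟩, fun U s => ?_⟩
  · obtain ⟨d, hd, hpd⟩ := hp.prime.exists_mem_finset_dvd hpa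
    exact (Finset.mem_filter.1 hd).2.2 p hp hpd
  refine EtPtsLib.sect_ext F U _ _ fun Ω _ _ ξ l => ?_
  obtain ⟨V, g, m, ⟨v, hv⟩, hm, hms⟩ := hT U s (liftHom ξ l default)
  obtain ⟨l', hl'⟩ := exists_fiber_map_eq ξ g l v hv
  let t := F.obj.map g.op s
  have hd : addOrderOf t ∈ D := by
    have h1 : addOrderOf t ∣ N := addOrderOf_dvd_iff_nsmul_eq_zero.2 (hF V t)
    have h2 : addOrderOf t ∣ m := addOrderOf_dvd_iff_nsmul_eq_zero.2 hms
    exact Finset.mem_filter.2 ⟨Nat.mem_divisors.2 ⟨h1, hN.ne'⟩, Nat.pos_of_dvd_of_pos h1 hN,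
      fun p hp hpd => hm.2 p hp (hpd.trans h2)⟩
  have ha : a • t = 0 := addOrderOf_dvd_iff_nsmul_eq_zero.1 (Finset.dvd_prod_of_mem _ hd)
  rw [← hl', ← EtPtsLib.germ_map, ← EtPtsLib.germ_map, map_nsmul, map_zero]
  exact congrArg _ ha

/-- Direct images of finite locally constant torsion sheaves along proper locally acyclic morphisms. -/
theorem flc_Rpush (f : X ⟶ Y) [IsProper f] [LocallyOfFinitePresentation f] {L : Set ℕ} {n : ℕ}
    (hf : EtAcyc.IsLocAcyclicN f L n) (F : EtCoh.Ab X) (hF : EtAcyc.IsLTorsion L F)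
    (hlc : EtCoh.IsFiniteLocallyConstant F) (q : ℕ) (hq : q ≤ n) :
    EtCoh.IsFiniteLocallyConstant ((EtCoh.Rpush f q).obj F) := by
  refine isFiniteLocallyConstant_of_local _ fun y => ?_
  obtain ⟨V, hV, hyV, -⟩ := exists_isAffineOpen_mem_and_subset (X := Y) (U := ⊤) (x := y) trivial
  haveI : IsAffine (V : Scheme.{u}) := hV
  refine ⟨V, V.ι, inferInstance, ⟨⟨y, hyV⟩, rfl⟩, ?_⟩
  let f' := pullback.snd f V.ι
  let g := pullback.fst f V.ι
  haveI : IsProper f' := MorphismProperty.pullback_snd _ _ ‹_›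
  haveI : LocallyOfFinitePresentation f' := MorphismProperty.pullback_snd _ _ ‹_›
  haveI : WeaklyEtale g := MorphismProperty.pullback_fst _ _ (inferInstance : WeaklyEtale V.ι)
  have hf' : EtAcyc.IsLocAcyclicN f' L n := by
    refine isLocAcyclicN_of_comp_weaklyEtale f' V.ι ?_
    rw [show f' ≫ V.ι = g ≫ f from pullback.condition.symm]
    exact isLocAcyclicN_weaklyEtale_comp g f hf
  haveI := QuasiCompact.compactSpace_of_compactSpace f'
  haveI : QuasiSeparatedSpace ↥(pullback f V.ι) := (HasAffineProperty.iff_of_isAffine (P := @QuasiSeparated) (f := f')).1 inferInstance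
  have hlc' : EtCoh.IsFiniteLocallyConstant ((EtCoh.pull g).obj F) := FLCLib.isFiniteLocallyConstant_pull g hlc
  obtain ⟨N, hN, hFN⟩ := FLCLib.exists_killedBy (FLCLib.isConstructible_of_flc hlc')
  obtain ⟨a, ha, hFa⟩ := exists_primesIn_killedBy (AcycCompLib.isLTorsion_pull g hF) hN hFN
  obtain ⟨e⟩ := FinPushLib.nonempty_pull_Rpush_iso f V.ι f' g (IsPullback.of_hasPullback f V.ι) F
    (RpushTorsLib.isTorsion_of_isLTorsion hF) q
  exact FLCLib.isFiniteLocallyConstant_of_iso e.symm
    (flc_Rpush_qcqs f' (locAcycStrict_of_isLocAcyclicN f' hf') ha _ hlc' hFa q hq)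

end Groth.Agent.SmoothPushLib
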