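import Groth.Agent.SmoothPushLib.Flc
import Groth.Agent.EtClosedPts.PointStalk

/-!
# Smooth proper direct images of finite locally constant sheaves with invertible torsion
-/

set_option autoImplicit false
set_option linter.style.haveILetI false
set_option backward.isDefEq.respectTransparency false
set_option backward.isDefEq.respectTransparency.types false
set_option maxHeartbeats 2000000
set_option synthInstance.maxHeartbeats 400000

universe u

open CategoryTheory CategoryTheory.Limits AlgebraicGeometry Opposite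
open Groth.Agent.EtPtsLib

noncomputable section

namespace Groth.Agent.SmoothPushLib

attribute [local instance] Groth.Agent.S0101.result

variable {X S : Scheme.{u}} (f : X ⟶ S)

/-- Killed on a chart, killed near it. -/
theorem exists_open_killed (F : EtCoh.Ab X) (hF : EtCoh.IsFiniteLocallyConstant F)
    (htor : ∀ (Ω : Type u) [Field Ω] [IsSepClosed Ω] (ξ : Spec (CommRingCat.of Ω) ⟶ X),
      ∃ n : ℕ, 0 < n ∧ (n : Ω) ≠ 0 ∧ ∀ s : (EtCoh.stalk ξ).obj F, n • s = 0)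
    (x : X) : ∃ (O : X.Opens) (n : ℕ), x ∈ O ∧ 0 < n ∧ (n : S.residueField (f x)) ≠ 0 ∧
      ∀ (Ω : Type u) [Field Ω] [IsSepClosed Ω] (ξ : Spec (CommRingCat.of Ω) ⟶ X), ξ default ∈ O →
        ∀ s : (EtCoh.stalk ξ).obj F, n • s = 0 := by
  obtain ⟨U, M, θ, hx, -, hθ⟩ := (FLCLib.finiteLocallyConstant_iff F).1 hF x
  obtain ⟨n, hn, hnΩ, hns⟩ := htor _ (geomPt x)
  obtain ⟨v, hv⟩ := hx
  haveI : AlgebraicGeometry.Etale U.hom := U.prop
  obtain ⟨l, -⟩ := Scheme.pointSmallEtaleFiberObjToPreimage_surjective (geomPt x) (geomPt_default x) U ⟨v, hv⟩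
  have hM : ∀ m : M, n • m = 0 := fun m => (hθ _ (geomPt x) l).1 (by
    show germ _ F l (θ (n • m)) = germ _ F l (θ 0)
    refine (congrArg _ (map_nsmul θ.hom n m)).trans ((map_nsmul _ n _).trans ((hns _).trans ?_))
    exact ((congrArg _ (map_zero θ.hom)).trans (map_zero _)).symm)
  refine ⟨⟨Set.range U.hom, U.hom.isOpenMap.isOpen_range⟩, n, ⟨v, hv⟩, hn, fun h0 => hnΩ ?_, fun Ω _ _ ξ hξ s => ?_⟩
  · have h1 := congrArg (f.residueFieldMap x).hom h0
    rw [map_natCast, map_zero] at h1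
    have h2 := congrArg (algebraMap (X.residueField x) (SeparableClosure (X.residueField x))) h1
    rwa [map_natCast, map_zero] at h2
  · obtain ⟨w, hw⟩ := hξ
    obtain ⟨l', -⟩ := Scheme.pointSmallEtaleFiberObjToPreimage_surjective ξ rfl U ⟨w, hw⟩
    obtain ⟨m, rfl⟩ := (hθ Ω ξ l').2 s
    show n • germ ξ F l' (θ m) = 0
    exact ((map_nsmul _ n _).symm.trans (congrArg _ (map_nsmul θ.hom n m).symm)).trans
      ((congrArg (fun k => germ ξ F l' (θ k)) (hM m)).trans ((congrArg _ (map_zero θ.hom)).trans (map_zero _)))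

/-- Killed stalks give a killed sheaf. -/
theorem killedBy_of_stalks {n : ℕ} (F : EtCoh.Ab X)
    (h : ∀ (Ω : Type u) [Field Ω] [IsSepClosed Ω] (ξ : Spec (CommRingCat.of Ω) ⟶ X) (s : (EtCoh.stalk ξ).obj F),
      n • s = 0) : EtCoh.KilledBy n F := fun U s =>
  EtPtsLib.sect_ext F U _ _ fun Ω _ _ ξ l => (map_nsmul _ n s).trans ((h Ω ξ _).trans (map_zero _).symm)

theorem exists_nbhd_killed [IsProper f] (F : EtCoh.Ab X) (hF : EtCoh.IsFiniteLocallyConstant F)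
    (htor : ∀ (Ω : Type u) [Field Ω] [IsSepClosed Ω] (ξ : Spec (CommRingCat.of Ω) ⟶ X),
      ∃ n : ℕ, 0 < n ∧ (n : Ω) ≠ 0 ∧ ∀ s : (EtCoh.stalk ξ).obj F, n • s = 0)
    (y : S) : ∃ (V : S.Opens) (a : ℕ), IsAffineOpen V ∧ y ∈ V ∧ 0 < a ∧ IsUnit (a : Γ((V : Scheme.{u}), ⊤)) ∧
      EtCoh.KilledBy a ((EtCoh.pull (pullback.fst f V.ι)).obj F) := by
  classical
  choose O n hxO hn hny hkill using exists_open_killed f F hF htor
  obtain ⟨t, ht⟩ := (f.isCompact_preimage_singleton y).elim_finite_subcover (fun x : f ⁻¹' {y} => (O x.1 : Set X))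
    (fun x => (O x.1).2) (fun x hx => Set.mem_iUnion.2 ⟨⟨x, hx⟩, hxO x⟩)
  let a := ∏ x ∈ t, n x.1
  let Ou : Set X := ⋃ x ∈ t, (O x.1 : Set X)
  have hOu : IsOpen Ou := isOpen_biUnion fun x _ => (O x.1).2
  have hya : (a : S.residueField y) ≠ 0 := by
    rw [Nat.cast_prod]
    refine Finset.prod_ne_zero_iff.2 fun x _ => ?_
    have key : ∀ z : S, z = y → (n x.1 : S.residueField z) ≠ 0 → (n x.1 : S.residueField y) ≠ 0 := by
      rintro z rfl h
      exact h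
    exact key _ x.2 (hny x.1)
  obtain ⟨V₀, hV₀, hyV₀, hle⟩ := exists_isAffineOpen_mem_and_subset (X := S)
    (U := ⟨(f '' Ouᶜ)ᶜ, ((f.isClosedMap) _ hOu.isClosed_compl).isOpen_compl⟩) (x := y)
    (fun ⟨x, hx, hxy⟩ => hx (ht hxy))
  let V := S.basicOpen (U := V₀) (a : Γ(S, V₀))
  have hyV : y ∈ V := by
    refine (Scheme.evaluation_ne_zero_iff_mem_basicOpen _ _ hyV₀ _).1 ?_
    simpa using hya
  refine ⟨V, a, hV₀.basicOpen _, hyV, Finset.prod_pos fun x _ => hn x.1, ?_, ?_⟩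
  · have h1 : IsUnit (S.presheaf.map (homOfLE (S.basicOpen_le (a : Γ(S, V₀)))).op (a : Γ(S, V₀))) :=
      RingedSpace.isUnit_res_basicOpen _ (a : Γ(S, V₀))
    have h2 := h1.map V.topIso.inv.hom
    simpa using h2
  refine killedBy_of_stalks _ fun Ω _ _ ξ s => ?_
  let g := pullback.fst f V.ι
  obtain ⟨s', rfl⟩ : ∃ s', (CdFieldLib.stalkCompIso g ξ F).inv s' = s :=
    (ConcreteCategory.bijective_of_isIso (CdFieldLib.stalkCompIso g ξ F).inv).2 s
  rw [← map_nsmul]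
  refine (congrArg _ ?_).trans (map_zero _)
  have hmem : (ξ ≫ g) default ∈ Ou := by
    by_contra h
    refine hle ?_ ⟨(ξ ≫ g) default, h, rfl⟩
    refine S.basicOpen_le (a : Γ(S, V₀)) ?_
    rw [← Scheme.Hom.comp_apply, Category.assoc, pullback.condition, ← Category.assoc, Scheme.Hom.comp_apply]
    exact ((ξ ≫ pullback.snd f V.ι) default).2
  obtain ⟨x, hxt, hxO'⟩ := Set.mem_iUnion₂.1 hmem
  obtain ⟨c, hc⟩ : n x.1 ∣ a := Finset.dvd_prod_of_mem (fun x => n x.1) hxt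
  rw [hc, mul_comm, mul_nsmul']
  rw [hkill x.1 Ω (ξ ≫ g) hxO' s', smul_zero]

/-- Smooth proper direct images preserve finite locally constant sheaves with invertible torsion. -/
theorem flc_Rpush_smooth [IsProper f] [Smooth f] (F : EtCoh.Ab X) (hF : EtCoh.IsFiniteLocallyConstant F)
    (htor : ∀ (Ω : Type u) [Field Ω] [IsSepClosed Ω] (ξ : Spec (CommRingCat.of Ω) ⟶ X),
      ∃ n : ℕ, 0 < n ∧ (n : Ω) ≠ 0 ∧ ∀ s : (EtCoh.stalk ξ).obj F, n • s = 0)
    (q : ℕ) : EtCoh.IsFiniteLocallyConstant ((EtCoh.Rpush f q).obj F) := by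
  refine isFiniteLocallyConstant_of_local _ fun y => ?_
  obtain ⟨V, a, hV, hyV, ha, hu, hFa⟩ := exists_nbhd_killed f F hF htor y
  refine ⟨V, V.ι, inferInstance, ⟨⟨y, hyV⟩, rfl⟩, ?_⟩
  haveI : Smooth (pullback.snd f V.ι) := MorphismProperty.pullback_snd _ _ ‹_›
  haveI : IsProper (pullback.snd f V.ι) := MorphismProperty.pullback_snd _ _ ‹_›
  let L : Set ℕ := {ℓ | ℓ.Prime ∧ ℓ ∣ a}
  have hloc : EtAcyc.IsLocAcyclicN (pullback.snd f V.ι) L q :=
    (SmoothBCLib.indSmoothLoc_of_smooth (pullback.snd f V.ι)).isLocAcyclicN SmoothBCLib.henLineKey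
      (fun ℓ hℓ => primesInvertibleOn_of_isUnit (pullback.snd f V.ι) hℓ.1
        (isUnit_of_dvd_unit ((Nat.cast_dvd_cast hℓ.2) : (ℓ : Γ((V : Scheme.{u}), ⊤)) ∣ (a : Γ((V : Scheme.{u}), ⊤))) hu)) q
  have hT : EtCoh.IsTorsion F := EtClosedPts.isTorsion_of_stalks fun Ω _ _ ξ b => by
    obtain ⟨n, hn, -, hns⟩ := htor Ω ξ
    exact isOfFinAddOrder_iff_nsmul_eq_zero.2 ⟨n, hn, hns b⟩
  obtain ⟨e⟩ := FinPushLib.nonempty_pull_Rpush_iso f V.ι (pullback.snd f V.ι) (pullback.fst f V.ι)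
    (IsPullback.of_hasPullback f V.ι) F hT q
  exact FLCLib.isFiniteLocallyConstant_of_iso e.symm (flc_Rpush _ hloc _
    (CompBCLib.isLTorsion_of_killedBy (L := L) (N := a) (⟨ha, fun p hp hpa => ⟨hp, hpa⟩⟩ : EtAcyc.PrimesIn L a) hFa)
    (FLCLib.isFiniteLocallyConstant_pull _ hF) q le_rfl)

end Groth.Agent.SmoothPushLib
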