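import Groth.Agent.S0105
import Groth.Agent.FLCLib.Basic

/-!
# Stalks of a finite locally constant sheaf on a connected scheme
-/

set_option autoImplicit false
set_option linter.style.haveILetI false
set_option backward.isDefEq.respectTransparency false
set_option backward.isDefEq.respectTransparency.types false
set_option maxHeartbeats 1000000

universe u

open CategoryTheory CategoryTheory.Limits AlgebraicGeometry Opposite
open Groth.Agent.EtPtsLib

noncomputable section

namespace Groth.Agent.SmoothPushLib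

/-- On a connected scheme all the stalks of a finite locally constant sheaf are isomorphic. -/
theorem nonempty_stalk_addEquiv {Y : Scheme.{u}} [ConnectedSpace Y] (G : EtCoh.Ab Y)
    (hG : EtCoh.IsFiniteLocallyConstant G) {Ω Ω' : Type u} [Field Ω] [IsSepClosed Ω] [Field Ω'] [IsSepClosed Ω']
    (a : Spec (CommRingCat.of Ω) ⟶ Y) (b : Spec (CommRingCat.of Ω') ⟶ Y) :
    Nonempty ((EtCoh.stalk a).obj G ≃+ (EtCoh.stalk b).obj G) := by
  obtain ⟨M, _, _, ι, U, hU, hM⟩ := Groth.Agent.S0105.result G hG
  have key : ∀ {K : Type u} [Field K] [IsSepClosed K] (ξ : Spec (CommRingCat.of K) ⟶ Y),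
      Nonempty (ULift.{u + 1} M ≃+ (EtCoh.stalk ξ).obj G) := by
    intro K _ _ ξ
    obtain ⟨i, v, hv⟩ := hU (ξ default)
    obtain ⟨φ⟩ := hM i
    obtain ⟨θ, hθ⟩ := FLCLib.exists_isConstOn_of_iso G (U i) _ φ
    obtain ⟨l, -⟩ := Scheme.pointSmallEtaleFiberObjToPreimage_surjective ξ rfl (U i) ⟨v, hv⟩
    exact ⟨AddEquiv.ofBijective
      (((Scheme.pointSmallEtale ξ).toPresheafFiber (U i) l G.obj).hom.comp θ.hom) (hθ K ξ l)⟩
  exact ⟨(key a).some.symm.trans (key b).some⟩

end Groth.Agent.SmoothPushLib
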