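import Groth.Agent.ZeroAcycLib.Acyclic
import Groth.Agent.GeomConnPull.Field
import Groth.Agent.AVLib.GeomInt
import Groth.Agent.AcycCompLib.Criterion

/-!
# Smooth morphisms are locally 0-acyclic for every set of primes
-/

set_option autoImplicit false
set_option linter.style.haveILetI false
set_option backward.isDefEq.respectTransparency false
set_option backward.isDefEq.respectTransparency.types false
set_option maxHeartbeats 1000000

universe u

open CategoryTheory CategoryTheory.Limits AlgebraicGeometry Opposite

noncomputable section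

namespace Groth.Agent.SmoothPushLib

attribute [local instance] Groth.Agent.S0101.result

/-- Flat quasi-compact morphisms with geometrically connected fibres are acyclic in degree zero. -/
theorem isAcyclicN_zero_of_connected {X Y : Scheme.{u}} (g : X ⟶ Y) [Flat g] [QuasiCompact g]
    [GeometricallyConnected g] (L : Set ℕ) : EtAcyc.IsAcyclicN g L 0 := fun V F _ _ => by
  haveI : Flat (EtAcyc.prj g V) := MorphismProperty.pullback_fst _ _ ‹Flat g›
  haveI : QuasiCompact (EtAcyc.prj g V) := MorphismProperty.pullback_fst _ _ ‹QuasiCompact g›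
  haveI : GeometricallyConnected (EtAcyc.prj g V) :=
    MorphismProperty.pullback_fst (P := @GeometricallyConnected) _ _ ‹GeometricallyConnected g›
  have hu := GeomConnPull.isIso_unit_of_flat (EtAcyc.prj g V) F
  refine ⟨fun q hq => (AcycCompLib.bijective_Hpull_of_unit (EtAcyc.prj g V) q F 0 hu fun r h1 h2 => ?_).1 hq,
    (AcycCompLib.bijective_Hpull_of_unit (EtAcyc.prj g V) (0 + 1) F 0 hu fun r h1 h2 => ?_).2 le_rfl⟩
  · omega
  · omega

/-- Smooth morphisms are locally 0-acyclic for every set of primes. -/
theorem smooth_isLocAcyclicN_zero {X Y : Scheme.{u}} (g : X ⟶ Y) [Smooth g] (L : Set ℕ) :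
    EtAcyc.IsLocAcyclicN g L 0 := fun x RY RX _ _ _ _ _ _ _ _ _ _ _ _ hψ => by
  haveI : GeometricallyReduced g := AVLib.geometricallyReduced_of_smooth g
  have hgen := ZeroAcycLib.genClosedAt_of_isPullback (ZeroAcycLib.genClosedCharts_of_flat g (Or.inr inferInstance))
    (IsPullback.of_horiz_isIso (fst := 𝟙 X) (snd := g) (f := g) (g := 𝟙 Y) ⟨by simp⟩) x
  haveI : Flat (Spec.map (CommRingCat.ofHom (algebraMap RY RX))) := by
    rw [HasRingHomProperty.Spec_iff (P := @Flat)]
    refine StrictLocLib.flat_of_strictHenselization (A := Y.presheaf.stalk (g.base x)) (R := RY) (algebraMap RY RX) ?_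
    rw [hψ]
    exact RingHom.Flat.comp (Flat.stalkMap g x)
      (RingHom.flat_algebraMap_iff.2 (ProEtLib2.flat_of_isIndEtale (S12237.result (X.presheaf.stalk x) RX)))
  haveI : GeometricallyConnected (Spec.map (CommRingCat.ofHom (algebraMap RY RX))) :=
    StrictLocLib.geometricallyConnected_of_algClosed _ fun Ω _ _ η =>
      ZeroAcycLib.connectedSpace_fibre g x hgen RY RX (algebraMap RY RX) hψ Ω η
  exact isAcyclicN_zero_of_connected _ L

end Groth.Agent.SmoothPushLib
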