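import Groth.Agent.SmoothPushLib.SpecMap
import Groth.Agent.SmoothPushLib.Spec
import Groth.Agent.FinPushLib.Basic
import Groth.Agent.StrictLocLib.ProperBC
import Groth.Agent.EtVanish.Henselian

/-!
# Specialisations of proper direct images from the cohomology of the geometric fibres
-/

set_option autoImplicit false
set_option linter.style.haveILetI false
set_option linter.unusedSectionVars false
set_option backward.isDefEq.respectTransparency false
set_option backward.isDefEq.respectTransparency.types false
set_option maxHeartbeats 2000000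
set_option synthInstance.maxHeartbeats 400000

universe u

open CategoryTheory CategoryTheory.Limits AlgebraicGeometry Opposite IsLocalRing
open Groth.Agent.EtPtsLib

noncomputable section

namespace Groth.Agent.SmoothPushLib

attribute [local instance] Groth.Agent.S0101.result

variable {X Y : Scheme.{u}}

theorem subsingleton_H_sepClosed (k : Type u) [Field k] [IsSepClosed k] (A : EtCoh.Ab (Spec (CommRingCat.of k)))
    (n : ℕ) : Subsingleton (EtCoh.H (Spec (CommRingCat.of k)) A (n + 1)) := by
  haveI : IsSepClosed (ResidueField k) := PBCLib.isSepClosed_residueField_self k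
  exact EtVanish.subsingleton_H_strictlyHenselian k A n

/-- Injectivity and surjectivity on a strictly henselian base. -/
theorem Hpull_Rpush_geomFibre (R : Type u) [CommRing R] [HenselianLocalRing R] [IsSepClosed (ResidueField R)]
    (f : X ⟶ Spec (CommRingCat.of R)) [IsProper f] {N : ℕ} (hN : 0 < N) (F : EtCoh.Ab X) (hF : EtCoh.KilledBy N F)
    {k : Type u} [Field k] [IsSepClosed k] (ζ : Spec (CommRingCat.of k) ⟶ Spec (CommRingCat.of R)) (q : ℕ) :
    (Function.Injective (EtCore.Hpull (pullback.fst f ζ) F q) →
        Function.Injective (EtCore.Hpull ζ ((EtCoh.Rpush f q).obj F) 0)) ∧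
      (Function.Surjective (EtCore.Hpull (pullback.fst f ζ) F q) →
        Function.Surjective (EtCore.Hpull ζ ((EtCoh.Rpush f q).obj F) 0)) := by
  refine Hpull_Rpush f ζ (pullback.fst f ζ) (pullback.snd f ζ) pullback.condition
    (EtVanish.subsingleton_H_strictlyHenselian R) (subsingleton_H_sepClosed k) ?_ ?_ q F hF
  · exact fun A _ => StrictLocLib.isIso_baseChange0_proper f ζ (pullback.snd f ζ) (pullback.fst f ζ)
      (IsPullback.of_hasPullback f ζ) A
  · intro A hA hv r
    obtain ⟨e⟩ := FinPushLib.nonempty_pull_Rpush_iso f ζ (pullback.snd f ζ) (pullback.fst f ζ)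
      (IsPullback.of_hasPullback f ζ) A (PBCLib.isTorsion_of_killedBy' hN hA) (r + 1)
    haveI : (EtCoh.pull ζ).Additive := (EtCoh.pullPushAdj ζ).left_adjoint_additive
    exact ((EtCoh.pull ζ).map_isZero (hv r)).of_iso e.symm

variable (f : X ⟶ Y) [IsProper f] {N : ℕ} (hN : 0 < N) (F : EtCoh.Ab X) (hF : EtCoh.KilledBy N F) (q : ℕ)

include hN hF

/-- Specialisations of a proper direct image are injective when restrictions to geometric fibres are. -/
theorem injOnStrictLoc_Rpush
    (h : ∀ (y : Y) (R : Type u) [CommRing R] [HenselianLocalRing R] [IsSepClosed (ResidueField R)]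
      [Algebra (Y.presheaf.stalk y) R] [IsLocalHom (algebraMap (Y.presheaf.stalk y) R)]
      [Hensel.IsStrictHenselization (Y.presheaf.stalk y) R] (t : Spec (CommRingCat.of R)),
      Function.Injective (EtCore.Hpull (pullback.fst (pullback.snd f (Hens2.specOf Y y R)) (geomPtAlg t))
        ((EtCoh.pull (pullback.fst f (Hens2.specOf Y y R))).obj F) q)) :
    InjOnStrictLoc ((EtCoh.Rpush f q).obj F) := by
  intro y R _ _ _ _ _ _ t
  let σ := Hens2.specOf Y y R
  obtain ⟨e⟩ := FinPushLib.nonempty_pull_Rpush_iso f σ (pullback.snd f σ) (pullback.fst f σ)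
    (IsPullback.of_hasPullback f σ) F (PBCLib.isTorsion_of_killedBy' hN hF) q
  exact (Hpull_zero_of_iso (geomPtAlg t) e.inv).1 ((Hpull_Rpush_geomFibre R (pullback.snd f σ) hN _
    (PBCLib.killedBy_pull _ hF) (geomPtAlg t) q).1 (h y R t))

/-- Specialisations of a proper direct image are surjective when restrictions to geometric fibres are. -/
theorem surjOnStrictLoc_Rpush
    (h : ∀ (y : Y) (R : Type u) [CommRing R] [HenselianLocalRing R] [IsSepClosed (ResidueField R)]
      [Algebra (Y.presheaf.stalk y) R] [IsLocalHom (algebraMap (Y.presheaf.stalk y) R)]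
      [Hensel.IsStrictHenselization (Y.presheaf.stalk y) R] (t : Spec (CommRingCat.of R)),
      Function.Surjective (EtCore.Hpull (pullback.fst (pullback.snd f (Hens2.specOf Y y R)) (geomPtAlg t))
        ((EtCoh.pull (pullback.fst f (Hens2.specOf Y y R))).obj F) q)) :
    SurjOnStrictLoc ((EtCoh.Rpush f q).obj F) := by
  intro y R _ _ _ _ _ _ t
  let σ := Hens2.specOf Y y R
  obtain ⟨e⟩ := FinPushLib.nonempty_pull_Rpush_iso f σ (pullback.snd f σ) (pullback.fst f σ)
    (IsPullback.of_hasPullback f σ) F (PBCLib.isTorsion_of_killedBy' hN hF) q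
  exact (Hpull_zero_of_iso (geomPtAlg t) e.inv).2 ((Hpull_Rpush_geomFibre R (pullback.snd f σ) hN _
    (PBCLib.killedBy_pull _ hF) (geomPtAlg t) q).2 (h y R t))

end Groth.Agent.SmoothPushLib
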