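import Groth.Agent.SmoothPushLib.Fibre
import Groth.Agent.SmoothBCLib.RowsProperFibre
import Groth.Agent.FLCLib.Present

/-!
# Specialisations of proper locally acyclic direct images of locally constant sheaves
-/

set_option autoImplicit false
set_option linter.style.haveILetI false
set_option backward.isDefEq.respectTransparency false
set_option backward.isDefEq.respectTransparency.types false
set_option maxHeartbeats 2000000
set_option synthInstance.maxHeartbeats 400000

universe u

open CategoryTheory CategoryTheory.Limits AlgebraicGeometry Opposite IsLocalRing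
open Groth.Agent.EtPtsLib

noncomputable section

namespace Groth.Agent.SmoothPushLib

attribute [local instance] Groth.Agent.S0101.result

variable {X Y : Scheme.{u}}

/-- The base changes to the strict localizations of the base are locally acyclic. -/
def LocAcycStrict (f : X ⟶ Y) (L : Set ℕ) (n : ℕ) : Prop :=
  ∀ (y : Y) (R : Type u) [CommRing R] [HenselianLocalRing R] [IsSepClosed (ResidueField R)]
    [Algebra (Y.presheaf.stalk y) R] [IsLocalHom (algebraMap (Y.presheaf.stalk y) R)]
    [Hensel.IsStrictHenselization (Y.presheaf.stalk y) R],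
    EtAcyc.IsLocAcyclicN (pullback.snd f (Hens2.specOf Y y R)) L n

variable (f : X ⟶ Y) [IsProper f] {L : Set ℕ} {n : ℕ} (hf : LocAcycStrict f L n) {N : ℕ}
  (hN : EtAcyc.PrimesIn L N) (F : EtCoh.Ab X) (hlc : EtCoh.IsFiniteLocallyConstant F) (hF : EtCoh.KilledBy N F)
  (q : ℕ)

include hlc in
theorem isLocallyConstant_pull {Z : Scheme.{u}} (g : Z ⟶ X) : EtRest.IsLocallyConstant ((EtCoh.pull g).obj F) :=
  (FLCLib.locallyConstant_iff _).2 ((((FLCLib.finiteLocallyConstant_iff _).1 hlc).mono fun _ _ => trivial).pull g)

include hf hN hlc hF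

theorem injOnStrictLoc_of_locAcyc (hq : q ≤ n + 1) : InjOnStrictLoc ((EtCoh.Rpush f q).obj F) := by
  refine injOnStrictLoc_Rpush f hN.1 F hF q fun y R _ _ _ _ _ _ t => ?_
  let i := pullback.fst f (Hens2.specOf Y y R)
  have h := SmoothBCLib.bijective_Hpull_properFibre R ⟨inferInstance, inferInstance⟩
    (pullback.snd f (Hens2.specOf Y y R)) (hf y R) ((EtCoh.pull i).obj F)
    (CompBCLib.isLTorsion_of_killedBy hN (PBCLib.killedBy_pull i hF)) (isLocallyConstant_pull F hlc i) t
    (AlgebraicClosure ((Spec (CommRingCat.of R)).residueField t))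
  rcases Nat.lt_or_ge n q with hlt | hge
  · obtain rfl : q = n + 1 := by omega
    exact h.2
  · exact (h.1 q hge).1

theorem surjOnStrictLoc_of_locAcyc (hq : q ≤ n) : SurjOnStrictLoc ((EtCoh.Rpush f q).obj F) := by
  refine surjOnStrictLoc_Rpush f hN.1 F hF q fun y R _ _ _ _ _ _ t => ?_
  let i := pullback.fst f (Hens2.specOf Y y R)
  exact ((SmoothBCLib.bijective_Hpull_properFibre R ⟨inferInstance, inferInstance⟩
    (pullback.snd f (Hens2.specOf Y y R)) (hf y R) ((EtCoh.pull i).obj F)
    (CompBCLib.isLTorsion_of_killedBy hN (PBCLib.killedBy_pull i hF)) (isLocallyConstant_pull F hlc i) t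
    (AlgebraicClosure ((Spec (CommRingCat.of R)).residueField t))).1 q hq).2

end Groth.Agent.SmoothPushLib
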