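import Groth.Agent.SmoothPushLib.LcFibre
import Groth.Agent.SmoothPushLib.Acyclic0
import Groth.Agent.SmoothBCLib.RowsAcyclic
import Groth.Agent.SmoothBCLib.KeyPlug

/-!
# Smooth morphisms: local acyclicity of the base changes to the strict localizations
-/

set_option autoImplicit false
set_option linter.style.haveILetI false
set_option backward.isDefEq.respectTransparency false
set_option backward.isDefEq.respectTransparency.types false
set_option maxHeartbeats 1000000

universe u

open CategoryTheory CategoryTheory.Limits AlgebraicGeometry Opposite IsLocalRing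

noncomputable section

namespace Groth.Agent.SmoothPushLib

attribute [local instance] Groth.Agent.S0101.result

variable {X Y : Scheme.{u}} (f : X ⟶ Y) [Smooth f]

theorem locAcycStrict_zero (L : Set ℕ) : LocAcycStrict f L 0 := fun y R _ _ _ _ _ _ =>
  haveI : Smooth (pullback.snd f (Hens2.specOf Y y R)) := MorphismProperty.pullback_snd _ _ inferInstance
  smooth_isLocAcyclicN_zero (pullback.snd f (Hens2.specOf Y y R)) L

theorem primesInvertibleOn_of_isUnit {Z : Scheme.{u}} (g : Z ⟶ Y) {ℓ : ℕ} (hℓ : ℓ.Prime)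
    (hu : IsUnit (ℓ : Γ(Y, ⊤))) : ℓ ∈ EtAcyc.primesInvertibleOn Z := by
  refine ⟨hℓ, fun z hz => ?_⟩
  have h1 : IsUnit (ℓ : Γ(Z, ⊤)) := by simpa using hu.map g.appTop.hom
  have h := h1.map (Z.evaluation ⊤ z trivial).hom
  rw [map_natCast] at h
  exact h.ne_zero hz

theorem locAcycStrict_of_isUnit (L : Set ℕ) (hL : ∀ ℓ ∈ L, ℓ.Prime ∧ IsUnit (ℓ : Γ(Y, ⊤))) (n : ℕ) :
    LocAcycStrict f L n := fun y R _ _ _ _ _ _ =>
  haveI : Smooth (pullback.snd f (Hens2.specOf Y y R)) := MorphismProperty.pullback_snd _ _ inferInstance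
  (SmoothBCLib.indSmoothLoc_of_smooth (pullback.snd f (Hens2.specOf Y y R))).isLocAcyclicN SmoothBCLib.henLineKey
    (fun ℓ hℓ => primesInvertibleOn_of_isUnit (pullback.fst f (Hens2.specOf Y y R) ≫ f) (hL ℓ hℓ).1 (hL ℓ hℓ).2) n

end Groth.Agent.SmoothPushLib
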