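import Groth.Agent.CompBCLib.Killed
import Groth.Agent.CompBCLib.Descent
import Groth.Agent.RDerLib.Horseshoe
import Groth.Prelude.Def_RDerDelta

/-!
# Sections of higher direct images and inverse images of cohomology classes

Let `X → S` be a morphism, `P → S` a base change, where both `S` and `P` have no higher cohomology. The map induced on
the sections of a higher direct image is injective (surjective) once the map on the cohomology of the base change is.
-/

set_option autoImplicit false
set_option linter.style.haveILetI false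
set_option linter.unusedSectionVars false
set_option backward.isDefEq.respectTransparency false
set_option backward.isDefEq.respectTransparency.types false
set_option maxHeartbeats 2000000
set_option synthInstance.maxHeartbeats 400000

universe u

open CategoryTheory CategoryTheory.Limits AlgebraicGeometry Opposite CategoryTheory.Abelian

noncomputable section

namespace Groth.Agent.SmoothPushLib

attribute [local instance] Groth.Agent.S0101.result

section General

variable {X : Scheme.{u}}

theorem H_map_comp {A B C : EtCoh.Ab X} (a : A ⟶ B) (b : B ⟶ C) (n : ℕ) (x : EtCoh.H X A n) :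
    Sheaf.H.map (a ≫ b) n x = Sheaf.H.map b n (Sheaf.H.map a n x) := by
  show Ext.comp x (Ext.mk₀ (a ≫ b)) (add_zero n) =
    Ext.comp (Ext.comp x (Ext.mk₀ a) (add_zero n)) (Ext.mk₀ b) (add_zero n)
  rw [Ext.comp_assoc_of_second_deg_zero, Ext.mk₀_comp_mk₀]

theorem H_map_zero {A B : EtCoh.Ab X} (n : ℕ) (x : EtCoh.H X A n) : Sheaf.H.map (0 : A ⟶ B) n x = 0 := by
  show Ext.comp x (Ext.mk₀ (0 : A ⟶ B)) (add_zero n) = 0
  rw [Ext.mk₀_zero, Ext.comp_zero]

theorem H_map_bijective {A B : EtCoh.Ab X} (a : A ⟶ B) [IsIso a] (n : ℕ) :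
    Function.Bijective (Sheaf.H.map a n) :=
  ConcreteCategory.bijective_of_isIso ((EtCoh.HF X n).map a)

variable (hX : ∀ (A : EtCoh.Ab X) (n : ℕ), Subsingleton (EtCoh.H X A (n + 1)))

include hX

/-- Global sections of an epimorphism are surjective when there is no first cohomology. -/
theorem surjective_H0_of_epi {A B : EtCoh.Ab X} (a : A ⟶ B) [Epi a] : Function.Surjective (Sheaf.H.map a 0) := by
  intro x
  let S : ShortComplex (EtCoh.Ab X) := ShortComplex.mk (kernel.ι a) a (kernel.condition a)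
  have hS : S.ShortExact := { exact := ShortComplex.exact_kernel a }
  haveI := hX S.X₁ 0
  exact Ext.covariant_sequence_exact₃ _ hS x (rfl : 0 + 1 = 1) (Subsingleton.elim _ _)

/-- Global sections preserve exactness in the middle when there is no first cohomology. -/
theorem exists_H0_of_exact {A B C : EtCoh.Ab X} (a : A ⟶ B) (b : B ⟶ C) (w : a ≫ b = 0)
    (hex : (ShortComplex.mk a b w).Exact) (x : EtCoh.H X B 0) (hx : Sheaf.H.map b 0 x = 0) :
    ∃ t, Sheaf.H.map a 0 t = x := by
  let S : ShortComplex (EtCoh.Ab X) :=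
    ShortComplex.mk (kernel.ι b) (cokernel.π (kernel.ι b)) (cokernel.condition _)
  have hS : S.ShortExact := { exact := ShortComplex.exact_cokernel _ }
  let m : S.X₃ ⟶ C := cokernel.desc _ b (kernel.condition b)
  haveI : Mono m := by
    rw [show m = Abelian.factorThruCoimage b from coequalizer.hom_ext (by simp [m, S])]
    infer_instance
  have h1 : Sheaf.H.map S.g 0 x = 0 := CompBCLib.H0_map_injective m (by
    rw [← H_map_comp, show S.g ≫ m = b from cokernel.π_desc _ _ _, hx, map_zero])
  obtain ⟨k, hk⟩ := Ext.covariant_sequence_exact₂ _ hS x h1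
  haveI : Epi (kernel.lift b a w) := hex.epi_kernelLift
  obtain ⟨t, ht⟩ := surjective_H0_of_epi hX (kernel.lift b a w) k
  refine ⟨t, ?_⟩
  rw [← kernel.lift_ι b a w, H_map_comp, ht]
  exact hk

end General

section Square

variable {X S P Xp : Scheme.{u}} (f : X ⟶ S) (v : P ⟶ S) (h : Xp ⟶ X) (pY : Xp ⟶ P) (w : h ≫ f = pY ≫ v)

/-- The edge map is natural. -/
theorem HofPush_natural {A B : EtCoh.Ab X} (a : A ⟶ B) (n : ℕ) (x : EtCoh.H S ((EtCoh.push f).obj A) n) :
    EtLim.HofPush f B n (Sheaf.H.map ((EtCoh.push f).map a) n x) = Sheaf.H.map a n (EtLim.HofPush f A n x) := by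
  show Sheaf.H.map _ n (EtCore.Hpull f _ n (Sheaf.H.map _ n x)) = Sheaf.H.map a n (Sheaf.H.map _ n _)
  rw [CompBCLib.Hpull_map, ← H_map_comp, ← H_map_comp]
  exact congrArg (fun k => Sheaf.H.map k n _) ((EtCoh.pullPushAdj f).counit.naturality a)

theorem bijective_HofPush_zero (A : EtCoh.Ab X) : Function.Bijective (EtLim.HofPush f A 0) :=
  (AcycCompLib.bijective_HofPush f A 0 0 fun r h1 h2 => by omega).1 le_rfl

/-- Injectivity of pullback for the sections of a sheaf passes through isomorphisms. -/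
theorem Hpull_zero_of_iso {A B : EtCoh.Ab S} (e : A ⟶ B) [IsIso e] :
    (Function.Injective (EtCore.Hpull v A 0) → Function.Injective (EtCore.Hpull v B 0)) ∧
      (Function.Surjective (EtCore.Hpull v A 0) → Function.Surjective (EtCore.Hpull v B 0)) := by
  have he : ⇑(EtCore.Hpull v B 0) ∘ ⇑(Sheaf.H.map e 0) =
      ⇑(Sheaf.H.map ((EtCoh.pull v).map e) 0) ∘ ⇑(EtCore.Hpull v A 0) := funext fun x => CompBCLib.Hpull_map v e x
  constructor
  · intro hi
    refine (Function.Injective.of_comp_iff' _ (H_map_bijective e 0)).1 ?_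
    rw [he]
    exact (H_map_bijective _ 0).1.comp hi
  · intro hs
    refine Function.Surjective.of_comp (g := ⇑(Sheaf.H.map e 0)) ?_
    rw [he]
    exact (H_map_bijective _ 0).2.comp hs

variable {N : ℕ} (hS : ∀ (A : EtCoh.Ab S) (n : ℕ), Subsingleton (EtCoh.H S A (n + 1)))
  (hP : ∀ (A : EtCoh.Ab P) (n : ℕ), Subsingleton (EtCoh.H P A (n + 1)))
  (hbc : ∀ A : EtCoh.Ab X, EtCoh.KilledBy N A → IsIso (EtCoh.baseChange0 f v pY h w A))
  (hvan : ∀ A : EtCoh.Ab X, EtCoh.KilledBy N A → (∀ r, IsZero ((EtCoh.Rpush f (r + 1)).obj A)) →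
    ∀ r, IsZero ((EtCoh.Rpush pY (r + 1)).obj ((EtCoh.pull h).obj A)))

include hbc in
theorem degree_zero (A : EtCoh.Ab X) (hA : EtCoh.KilledBy N A) :
    (Function.Injective (EtCore.Hpull h A 0) → Function.Injective (EtCore.Hpull v ((EtCoh.push f).obj A) 0)) ∧
      (Function.Surjective (EtCore.Hpull h A 0) → Function.Surjective (EtCore.Hpull v ((EtCoh.push f).obj A) 0)) := by
  haveI := hbc A hA
  let g : EtCoh.H P ((EtCoh.pull v).obj ((EtCoh.push f).obj A)) 0 → EtCoh.H Xp ((EtCoh.pull h).obj A) 0 :=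
    ⇑(EtLim.HofPush pY ((EtCoh.pull h).obj A) 0) ∘ ⇑(Sheaf.H.map (EtCoh.baseChange0 f v pY h w A) 0)
  have hg : Function.Bijective g := (bijective_HofPush_zero pY _).comp (H_map_bijective _ 0)
  have he : g ∘ ⇑(EtCore.Hpull v ((EtCoh.push f).obj A) 0) =
      ⇑(EtCore.Hpull h A 0) ∘ ⇑(EtLim.HofPush f A 0) :=
    funext fun x => (CompBCLib.Hpull_HofPush v f h pY w A 0 x).symm
  constructor
  · intro hi
    refine Function.Injective.of_comp (f := g) ?_
    rw [he]
    exact hi.comp (bijective_HofPush_zero f A).1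
  · intro hs
    refine (Function.Surjective.of_comp_iff' hg _).1 ?_
    rw [he]
    exact hs.comp (bijective_HofPush_zero f A).2

include hS in
theorem subsingleton_H_acyclic (T : EtCoh.Ab X) (hT : ∀ r, IsZero ((EtCoh.Rpush f (r + 1)).obj T)) (n : ℕ) :
    Subsingleton (EtCoh.H X T (n + 1)) := by
  haveI := hS ((EtCoh.push f).obj T) n
  exact ((AcycCompLib.bijective_HofPush f T (n + 1) (n + 1) fun r h1 _ => by
    obtain ⟨r, rfl⟩ := Nat.exists_eq_succ_of_ne_zero (Nat.one_le_iff_ne_zero.1 h1)
    exact hT r).1 le_rfl).2.subsingleton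

include hS hP hbc hvan

/-- The maps on sections of higher direct images. -/
theorem Hpull_Rpush : ∀ (q : ℕ) (F : EtCoh.Ab X), EtCoh.KilledBy N F →
    (Function.Injective (EtCore.Hpull h F q) → Function.Injective (EtCore.Hpull v ((EtCoh.Rpush f q).obj F) 0)) ∧
      (Function.Surjective (EtCore.Hpull h F q) →
        Function.Surjective (EtCore.Hpull v ((EtCoh.Rpush f q).obj F) 0)) := by
  haveI : (EtCoh.push f).Additive := (EtCoh.pullPushAdj f).right_adjoint_additive
  haveI : (EtCoh.pull h).Additive := (EtCoh.pullPushAdj h).left_adjoint_additive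
  haveI : (EtCoh.pull v).Additive := (EtCoh.pullPushAdj v).left_adjoint_additive
  haveI : PreservesColimitsOfSize.{0, 0} (EtCoh.pull h) := (EtCoh.pullPushAdj h).leftAdjoint_preservesColimits
  haveI : PreservesFiniteColimits (EtCoh.pull h) := PreservesColimitsOfSize.preservesFiniteColimits _
  haveI : PreservesColimitsOfSize.{0, 0} (EtCoh.pull v) := (EtCoh.pullPushAdj v).leftAdjoint_preservesColimits
  haveI : PreservesFiniteColimits (EtCoh.pull v) := PreservesColimitsOfSize.preservesFiniteColimits _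
  haveI : PreservesFiniteLimits (EtCoh.push f) :=
    (EtCoh.pullPushAdj f).rightAdjoint_preservesLimits.{0, 0}.preservesFiniteLimits
  obtain ⟨Δ⟩ := RDerLib.nonempty_derivedLES (EtCoh.push f)
  intro q
  induction q with
  | zero =>
    intro F hF
    exact ⟨fun hi => (Hpull_zero_of_iso v ((EtCoh.push f).toRightDerivedZero.app F)).1
        ((degree_zero f v h pY w hbc F hF).1 hi),
      fun hs => (Hpull_zero_of_iso v ((EtCoh.push f).toRightDerivedZero.app F)).2
        ((degree_zero f v h pY w hbc F hF).2 hs)⟩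
  | succ q ih =>
    intro F hF
    obtain ⟨T, i, _, hT, hR⟩ := BCVertLib.exists_killed_acyclic f hF
    let Q := cokernel i
    have hQ : EtCoh.KilledBy N Q := BCVertLib.killedBy_of_epi (cokernel.π i) hT
    let E₀ : ShortComplex (EtCoh.Ab X) := ShortComplex.mk i (cokernel.π i) (cokernel.condition i)
    have hE : E₀.ShortExact := { exact := ShortComplex.exact_cokernel i }
    have hE' := hE.map_of_exact (EtCoh.pull h)
    have hXT : ∀ n, Subsingleton (EtCoh.H X T (n + 1)) := subsingleton_H_acyclic f hS T hR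
    have hXpT : ∀ n, Subsingleton (EtCoh.H Xp ((EtCoh.pull h).obj T) (n + 1)) :=
      subsingleton_H_acyclic pY hP _ (hvan T hT hR)
    -- classes in degree `q + 1` come from the quotient
    have hδ : ∀ c : EtCoh.H X F (q + 1), ∃ x : EtCoh.H X Q q, x.comp hE.extClass rfl = c := fun c =>
      haveI := hXT q
      Ext.covariant_sequence_exact₁ _ hE c (Subsingleton.elim _ _) (rfl : q + 1 = q + 1)
    have hepi : Epi (Δ.δ E₀ hE q (q + 1) rfl) :=
      (Δ.exact₁ E₀ hE q (q + 1) rfl).epi_f ((hR q).eq_of_tgt _ _)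
    rcases q with _ | m
    · let a := (EtCoh.push f).map (cokernel.π i)
      let b := (EtCoh.push f).toRightDerivedZero.app Q ≫ Δ.δ E₀ hE 0 1 rfl
      haveI : Epi (Δ.δ E₀ hE 0 1 rfl) := hepi
      haveI : Epi b := epi_comp _ _
      have hab : a ≫ b = 0 := by
        refine ((Category.assoc _ _ _).symm.trans (congrArg (· ≫ _)
          ((EtCoh.push f).toRightDerivedZero.naturality (cokernel.π i)))).trans ?_
        rw [Category.assoc]
        exact (congrArg (_ ≫ ·) (Δ.comp_δ E₀ hE 0 1 rfl)).trans comp_zero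
      let η : ShortComplex.mk a b hab ≅ ShortComplex.mk _ _ (Δ.comp_δ E₀ hE 0 1 rfl) :=
        ShortComplex.isoMk (asIso ((EtCoh.push f).toRightDerivedZero.app T))
          (asIso ((EtCoh.push f).toRightDerivedZero.app Q)) (Iso.refl _)
          ((EtCoh.push f).toRightDerivedZero.naturality (cokernel.π i)).symm
          (show (EtCoh.push f).toRightDerivedZero.app Q ≫ Δ.δ E₀ hE 0 1 rfl = b ≫ 𝟙 _ from
            (Category.comp_id b).symm)
      have hex : (ShortComplex.mk a b hab).Exact := ShortComplex.exact_of_iso η.symm (Δ.exact₃ E₀ hE 0 1 rfl)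
      have hex' := hex.map (EtCoh.pull v)
      let e := fun (A : EtCoh.Ab X) => EtLim.HofPush f A 0
      let e' := fun (A : EtCoh.Ab X) (x : EtCoh.H P ((EtCoh.pull v).obj ((EtCoh.push f).obj A)) 0) =>
        EtLim.HofPush pY ((EtCoh.pull h).obj A) 0 (Sheaf.H.map (EtCoh.baseChange0 f v pY h w A) 0 x)
      have hsq : ∀ A x, EtCore.Hpull h A 0 (e A x) = e' A (EtCore.Hpull v ((EtCoh.push f).obj A) 0 x) :=
        fun A x => CompBCLib.Hpull_HofPush v f h pY w A 0 x
      have he' : ∀ A, EtCoh.KilledBy N A → Function.Bijective (e' A) := fun A hA =>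
        haveI := hbc A hA
        (bijective_HofPush_zero pY _).comp (H_map_bijective _ 0)
      have hnat : ∀ t, Sheaf.H.map ((EtCoh.pull h).map (cokernel.π i)) 0 (e' T t) =
          e' Q (Sheaf.H.map ((EtCoh.pull v).map a) 0 t) := fun t => by
        refine (HofPush_natural pY _ 0 _).symm.trans ?_
        show EtLim.HofPush pY _ 0 (Sheaf.H.map _ 0 (Sheaf.H.map _ 0 t)) =
          EtLim.HofPush pY _ 0 (Sheaf.H.map _ 0 (Sheaf.H.map _ 0 t))
        rw [← H_map_comp, ← H_map_comp, AcycCompLib.baseChange0_natural]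
      constructor
      · intro hi
        refine (injective_iff_map_eq_zero _).2 fun z hz => ?_
        obtain ⟨x, rfl⟩ := surjective_H0_of_epi hS b z
        rw [CompBCLib.Hpull_map] at hz
        obtain ⟨t, ht⟩ := exists_H0_of_exact hP _ _ _ hex' _ hz
        have h0 : (e Q x).comp hE.extClass rfl = 0 := by
          refine hi ((CompBCLib.Hpull_δ h hE (e Q x)).trans ?_)
          rw [map_zero]
          show (EtCore.Hpull h Q 0 (e Q x)).comp hE'.extClass rfl = 0
          rw [hsq, ← ht]
          refine (congrArg (fun y => Ext.comp y hE'.extClass rfl) (hnat t).symm).trans ?_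
          show (Ext.comp (e' T t) (Ext.mk₀ ((EtCoh.pull h).map E₀.g)) (add_zero 0)).comp _ _ = 0
          rw [Ext.comp_assoc_of_second_deg_zero]
          exact (congrArg (fun k => Ext.comp (e' T t) k _) hE'.comp_extClass).trans (Ext.comp_zero _ _ _ _ _)
        obtain ⟨t₀, ht₀⟩ := Ext.covariant_sequence_exact₃ _ hE (e Q x) (rfl : 0 + 1 = 1) h0
        obtain ⟨t₁, rfl⟩ := (bijective_HofPush_zero f T).2 t₀
        have hx : Sheaf.H.map a 0 t₁ = x :=
          (bijective_HofPush_zero f Q).1 ((HofPush_natural f _ 0 t₁).trans ht₀)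
        rw [← hx, ← H_map_comp, hab, H_map_zero]
      · intro hs y
        haveI : Epi ((EtCoh.pull v).map b) := inferInstance
        obtain ⟨y', rfl⟩ := surjective_H0_of_epi hP ((EtCoh.pull v).map b) y
        obtain ⟨c, hc⟩ := hs ((e' Q y').comp hE'.extClass rfl)
        obtain ⟨x₀, rfl⟩ := hδ c
        obtain ⟨x, rfl⟩ := (bijective_HofPush_zero f Q).2 x₀
        rw [CompBCLib.Hpull_δ h hE] at hc
        have h0 : (e' Q (y' - EtCore.Hpull v _ 0 x)).comp hE'.extClass rfl = 0 := by
          simp only [e', map_sub]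
          rw [sub_eq_add_neg, Ext.add_comp, Ext.neg_comp, ← sub_eq_add_neg, sub_eq_zero]
          refine hc.symm.trans ?_
          exact congrArg (fun z => Ext.comp z hE'.extClass rfl) (hsq Q x)
        obtain ⟨t', ht'⟩ := Ext.covariant_sequence_exact₃ _ hE' _ (rfl : 0 + 1 = 1) h0
        obtain ⟨t, rfl⟩ := (he' T hT).2 t'
        have hy : Sheaf.H.map ((EtCoh.pull v).map a) 0 t = y' - EtCore.Hpull v _ 0 x :=
          (he' Q hQ).1 ((hnat t).symm.trans ht')
        refine ⟨Sheaf.H.map b 0 x, ?_⟩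
        rw [CompBCLib.Hpull_map, eq_comm, ← sub_eq_zero, ← map_sub, ← hy, ← H_map_comp, ← Functor.map_comp,
          hab, Functor.map_zero, H_map_zero]
    · have hmono : Mono (Δ.δ E₀ hE (m + 1) (m + 1 + 1) rfl) :=
        (Δ.exact₃ E₀ hE (m + 1) (m + 1 + 1) rfl).mono_g ((hR m).eq_of_src _ _)
      haveI := hmono
      haveI := hepi
      haveI : IsIso (Δ.δ E₀ hE (m + 1) (m + 1 + 1) rfl) := isIso_of_mono_of_epi _
      refine ⟨fun hi => (Hpull_zero_of_iso v (Δ.δ E₀ hE (m + 1) (m + 1 + 1) rfl)).1 ((ih Q hQ).1 ?_),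
        fun hs => (Hpull_zero_of_iso v (Δ.δ E₀ hE (m + 1) (m + 1 + 1) rfl)).2 ((ih Q hQ).2 ?_)⟩
      · refine (injective_iff_map_eq_zero _).2 fun x hx => ?_
        have h0 : x.comp hE.extClass (rfl : m + 1 + 1 = m + 1 + 1) = 0 := hi (by
          refine (CompBCLib.Hpull_δ h hE x).trans ?_
          rw [map_zero]
          show (EtCore.Hpull h Q (m + 1) x).comp _ _ = 0
          rw [hx, Ext.zero_comp])
        obtain ⟨t, ht⟩ := Ext.covariant_sequence_exact₃ _ hE x rfl h0
        haveI := hXT m
        rw [← ht, @Subsingleton.elim _ (hXT m) t 0]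
        exact Ext.zero_comp ..
      · intro y'
        obtain ⟨c, hc⟩ := hs (y'.comp hE'.extClass rfl)
        obtain ⟨x, rfl⟩ := hδ c
        refine ⟨x, ?_⟩
        rw [CompBCLib.Hpull_δ h hE] at hc
        have h0 : (y' - EtCore.Hpull h Q (m + 1) x).comp hE'.extClass (rfl : m + 1 + 1 = m + 1 + 1) = 0 := by
          rw [sub_eq_add_neg, Ext.add_comp, Ext.neg_comp, ← sub_eq_add_neg, sub_eq_zero]
          exact hc.symm
        obtain ⟨t, ht⟩ := Ext.covariant_sequence_exact₃ _ hE' _ rfl h0
        haveI := hXpT m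
        rw [eq_comm, ← sub_eq_zero, ← ht, @Subsingleton.elim _ (hXpT m) t 0]
        exact Ext.zero_comp ..

end Square

end Groth.Agent.SmoothPushLib
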